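import Mathlib

/-!
# S3333 / S6U: passing the local hypotheses to a subgroup `H ≥ S` (helper3)

Generic transfer lemmas: cardinality, centralizers, normalizers and Sylow-ness of
`S.subgroupOf H` inside the group `↥H`, and normality of `S` in `G` from normality in a normal `H`.
-/

set_option autoImplicit false

namespace Cfsg.Agent.S6U

open Subgroup

variable {G : Type*} [Group G]

theorem h3_card_subgroupOf {S H : Subgroup G} (hSH : S ≤ H) :
    Nat.card (S.subgroupOf H) = Nat.card S :=
  Nat.card_congr (Subgroup.subgroupOfEquivOfLe hSH).toEquiv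

theorem h3_mem_centralizer_subgroupOf {S H : Subgroup G} (hSH : S ≤ H) (x : H) :
    x ∈ Subgroup.centralizer ((S.subgroupOf H : Subgroup H) : Set H) ↔
      (x : G) ∈ Subgroup.centralizer (S : Set G) := by
  rw [Subgroup.mem_centralizer_iff, Subgroup.mem_centralizer_iff]
  constructor
  · intro h s hs
    have := h ⟨s, hSH hs⟩ (by simpa [Subgroup.mem_subgroupOf] using hs)
    exact congrArg Subtype.val this
  · intro h s hs
    apply Subtype.ext
    exact h (s : G) (by simpa [Subgroup.mem_subgroupOf] using hs)

theorem h3_centralizer_subgroupOf {S H : Subgroup G} (hSH : S ≤ H) :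
    Subgroup.centralizer ((S.subgroupOf H : Subgroup H) : Set H) =
      (Subgroup.centralizer (S : Set G)).subgroupOf H := by
  ext x
  rw [h3_mem_centralizer_subgroupOf hSH, Subgroup.mem_subgroupOf]

theorem h3_mem_normalizer_subgroupOf {S H : Subgroup G} (hSH : S ≤ H) (x : H) :
    x ∈ Subgroup.normalizer ((S.subgroupOf H : Subgroup H) : Set H) ↔
      (x : G) ∈ Subgroup.normalizer (S : Set G) := by
  rw [Subgroup.mem_normalizer_iff, Subgroup.mem_normalizer_iff]
  constructor
  · intro h s
    constructor
    · intro hs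
      have := (h ⟨s, hSH hs⟩).mp (by simpa [Subgroup.mem_subgroupOf] using hs)
      simpa [Subgroup.mem_subgroupOf] using this
    · intro hs
      have hsH : s ∈ H := by
        have h1 : (x : G) * s * (x : G)⁻¹ ∈ H := hSH hs
        have h2 : s = (x : G)⁻¹ * ((x : G) * s * (x : G)⁻¹) * (x : G) := by group
        rw [h2]
        exact H.mul_mem (H.mul_mem (H.inv_mem x.2) h1) x.2
      have := (h ⟨s, hsH⟩).mpr (by simpa [Subgroup.mem_subgroupOf] using hs)
      simpa [Subgroup.mem_subgroupOf] using this
  · intro h s
    have := h (s : G)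
    simpa [Subgroup.mem_subgroupOf] using this

theorem h3_normalizer_subgroupOf {S H : Subgroup G} (hSH : S ≤ H) :
    Subgroup.normalizer ((S.subgroupOf H : Subgroup H) : Set H) =
      (Subgroup.normalizer (S : Set G)).subgroupOf H := by
  ext x
  rw [h3_mem_normalizer_subgroupOf hSH, Subgroup.mem_subgroupOf]

theorem h3_mem_centralizer_singleton {H : Subgroup G} (x y : H) :
    y ∈ Subgroup.centralizer ({x} : Set H) ↔
      (y : G) ∈ Subgroup.centralizer ({(x : G)} : Set G) := by
  rw [Subgroup.mem_centralizer_singleton_iff, Subgroup.mem_centralizer_singleton_iff]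
  constructor
  · intro h; exact congrArg Subtype.val h
  · intro h; exact Subtype.ext h

/-- The local hypothesis `C(x) ≤ N(S)` passes to `H`. -/
theorem h3_loc_subgroupOf {S H : Subgroup G} (hSH : S ≤ H)
    (hcent : ∀ x ∈ S, x ≠ 1 →
      Subgroup.centralizer ({x} : Set G) ≤ Subgroup.normalizer (S : Set G)) :
    ∀ x ∈ S.subgroupOf H, x ≠ 1 →
      Subgroup.centralizer ({x} : Set H) ≤
        Subgroup.normalizer ((S.subgroupOf H : Subgroup H) : Set H) := by
  intro x hx hx1 y hy
  rw [h3_mem_normalizer_subgroupOf hSH]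
  apply hcent (x : G) (by simpa [Subgroup.mem_subgroupOf] using hx)
  · intro h; exact hx1 (Subtype.ext h)
  · exact (h3_mem_centralizer_singleton x y).mp hy

/-- `S.subgroupOf H` is a Sylow subgroup of `H` when `S` is one of `G`. -/
theorem h3_sylow_subgroupOf {p : ℕ} (P : Sylow p G) {H : Subgroup G}
    (hPH : (P : Subgroup G) ≤ H) :
    ∃ P' : Sylow p H, (P' : Subgroup H) = (P : Subgroup G).subgroupOf H :=
  ⟨P.subtype hPH, Sylow.coe_subtype P hPH⟩

/-- If the Sylow subgroup `S ≤ H` is normal in the normal subgroup `H`, it is normal in `G`. -/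
theorem h3_normal_of_normal_subgroupOf [Finite G] {p : ℕ} [Fact p.Prime] (P : Sylow p G)
    {H : Subgroup G} [H.Normal] (hPH : (P : Subgroup G) ≤ H)
    (hn : ((P : Subgroup G).subgroupOf H).Normal) : (P : Subgroup G).Normal := by
  have hn' : ((P.subtype hPH : Sylow p H) : Subgroup H).Normal := by
    rw [Sylow.coe_subtype]; exact hn
  have hchar := Sylow.characteristic_of_normal (P.subtype hPH) hn'
  have := @ConjAct.normal_of_characteristic_of_normal G _ H _
    ((P.subtype hPH : Sylow p H) : Subgroup H) hchar
  have hmap : ((P.subtype hPH : Sylow p H) : Subgroup H).map H.subtype = (P : Subgroup G) := by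
    rw [Sylow.coe_subtype, Subgroup.subgroupOf_map_subtype]
    exact inf_eq_left.mpr hPH
  rw [hmap] at this
  exact this

end Cfsg.Agent.S6U
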