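import Mathlib
import Cfsg.Agent.S6U.H3_Restrict

/-!
# S3333 / S6U, piece A2a: `|N| = 72` and the Sylow 2-subgroups of `N` are dihedral of order 8 (helper3)
-/

set_option autoImplicit false

namespace Cfsg.Agent.S6U

open Subgroup

/-- `|N_G(S)| = 72`. -/
theorem h3_card_normalizer {G : Type*} [Group G] [Finite G]
    (S : Subgroup G) (hcard : Nat.card S = 9)
    (eN : Subgroup.normalizer (S : Set G) ⧸ S.subgroupOf (Subgroup.normalizer (S : Set G)) ≃*
      DihedralGroup 4) :
    Nat.card ↥(Subgroup.normalizer (S : Set G)) = 72 := by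
  have h8 : Nat.card (↥(Subgroup.normalizer (S : Set G)) ⧸
      S.subgroupOf (Subgroup.normalizer (S : Set G))) = 8 := by
    rw [Nat.card_congr eN.toEquiv, DihedralGroup.nat_card]
  have h1 := (S.subgroupOf (Subgroup.normalizer (S : Set G))).card_mul_index
  rw [Subgroup.index_eq_card, h8, h3_card_subgroupOf Subgroup.le_normalizer, hcard] at h1
  omega

/-- Every Sylow 2-subgroup of `N_G(S)` is dihedral of order 8. -/
theorem h3_sylow_two_dihedral {G : Type*} [Group G] [Finite G]
    (S : Subgroup G) (hcard : Nat.card S = 9)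
    (eN : Subgroup.normalizer (S : Set G) ⧸ S.subgroupOf (Subgroup.normalizer (S : Set G)) ≃*
      DihedralGroup 4) :
    ∀ T : Sylow 2 ↥(Subgroup.normalizer (S : Set G)),
      Nonempty (↥(T : Subgroup ↥(Subgroup.normalizer (S : Set G))) ≃* DihedralGroup 4) := by
  intro T
  have : Fact (Nat.Prime 2) := ⟨Nat.prime_two⟩
  have h72 := h3_card_normalizer S hcard eN
  have h8 : Nat.card (↥(Subgroup.normalizer (S : Set G)) ⧸
      S.subgroupOf (Subgroup.normalizer (S : Set G))) = 8 := by
    rw [Nat.card_congr eN.toEquiv, DihedralGroup.nat_card]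
  have h9 : Nat.card (S.subgroupOf (Subgroup.normalizer (S : Set G))) = 9 := by
    rw [h3_card_subgroupOf Subgroup.le_normalizer, hcard]
  -- `|T| = 8`
  have hT8 : Nat.card (T : Subgroup ↥(Subgroup.normalizer (S : Set G))) = 8 := by
    obtain ⟨k, hk⟩ := IsPGroup.iff_card.mp T.isPGroup'
    have hidx := (T : Subgroup ↥(Subgroup.normalizer (S : Set G))).card_mul_index
    rw [h72, hk] at hidx
    have hodd : ¬ 2 ∣ (T : Subgroup ↥(Subgroup.normalizer (S : Set G))).index := T.not_dvd_index
    have hk3 : k ≤ 3 := by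
      by_contra hlt
      have h16 : 2 ^ 4 ∣ 2 ^ k := pow_dvd_pow 2 (by omega)
      have : 2 ^ 4 ∣ 72 := by
        rw [← hidx]; exact Dvd.dvd.mul_right h16 _
      omega
    rw [hk]
    interval_cases k
    · exfalso; apply hodd; omega
    · exfalso; apply hodd; omega
    · exfalso; apply hodd; omega
    · rfl
  -- the projection restricted to `T`
  let φ : ↥(T : Subgroup ↥(Subgroup.normalizer (S : Set G))) →*
      (↥(Subgroup.normalizer (S : Set G)) ⧸ S.subgroupOf (Subgroup.normalizer (S : Set G))) :=
    (QuotientGroup.mk' (S.subgroupOf (Subgroup.normalizer (S : Set G)))).comp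
      (T : Subgroup ↥(Subgroup.normalizer (S : Set G))).subtype
  have hinj : Function.Injective φ := by
    rw [injective_iff_map_eq_one]
    intro t ht
    have htS : (t : ↥(Subgroup.normalizer (S : Set G))) ∈
        S.subgroupOf (Subgroup.normalizer (S : Set G)) := by
      have : ((t : ↥(Subgroup.normalizer (S : Set G))) :
          ↥(Subgroup.normalizer (S : Set G)) ⧸ S.subgroupOf (Subgroup.normalizer (S : Set G))) = 1 :=
        ht
      rwa [QuotientGroup.eq_one_iff] at this
    have h8t : t ^ 8 = 1 := by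
      rw [← hT8]; exact pow_card_eq_one'
    have h9t : (t : ↥(Subgroup.normalizer (S : Set G))) ^ 9 = 1 := by
      have h := pow_card_eq_one' (G := S.subgroupOf (Subgroup.normalizer (S : Set G)))
        (x := ⟨(t : ↥(Subgroup.normalizer (S : Set G))), htS⟩)
      rw [h9] at h
      exact congrArg Subtype.val h
    have h9t' : t ^ 9 = 1 := Subtype.ext (by simpa using h9t)
    have : t = t ^ 9 * (t ^ 8)⁻¹ := by group
    rw [this, h8t, h9t']; simp
  have hbij : Function.Bijective φ := by
    rw [Nat.bijective_iff_injective_and_card]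
    exact ⟨hinj, by rw [hT8, h8]⟩
  exact ⟨(MulEquiv.ofBijective φ hbij).trans eN⟩

end Cfsg.Agent.S6U
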