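import Mathlib

/-!
# S3333 / S6U, piece A1: `S` has exponent 3 (helper7)
-/

set_option autoImplicit false

namespace Cfsg.Agent.S6U

open DihedralGroup

theorem h7_exp_three {G : Type*} [Group G] [Finite G]
    (S : Subgroup G) (hcard : Nat.card S = 9)
    (hC : Subgroup.centralizer (S : Set G) = S)
    (eN : Subgroup.normalizer (S : Set G) ⧸ S.subgroupOf (Subgroup.normalizer (S : Set G)) ≃*
      DihedralGroup 4) :
    ∀ a ∈ S, a ^ 3 = 1 := by
  intro a haS
  by_contra ha3
  -- `a` has order 9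
  have hdvd : orderOf a ∣ 9 := by
    rw [← hcard]; exact Subgroup.orderOf_dvd_natCard S haS
  have ho : orderOf a = 9 := by
    have h9 : (9 : ℕ) = 3 ^ 2 := by norm_num
    rw [h9, Nat.dvd_prime_pow Nat.prime_three] at hdvd
    obtain ⟨k, hk, hok⟩ := hdvd
    interval_cases k
    · exfalso; apply ha3
      rw [pow_zero, orderOf_eq_one_iff] at hok
      rw [hok, one_pow]
    · exfalso; apply ha3
      rw [pow_one] at hok
      rw [← hok]; exact pow_orderOf_eq_one a
    · rw [hok]; norm_num
  have hSz : Subgroup.zpowers a = S := by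
    apply Subgroup.eq_of_le_of_card_ge (Subgroup.zpowers_le.mpr haS)
    rw [Nat.card_zpowers, ho, hcard]
  set N := Subgroup.normalizer (S : Set G) with hN
  -- conjugates of `a` by elements of `N` are powers of `a`
  have hpow : ∀ n ∈ N, ∃ k : ℤ, n * a * n⁻¹ = a ^ k := by
    intro n hn
    have h1 : n * a * n⁻¹ ∈ S := (Subgroup.mem_normalizer_iff.mp hn a).mp haS
    rw [← hSz, Subgroup.mem_zpowers_iff] at h1
    obtain ⟨k, hk⟩ := h1
    exact ⟨k, hk.symm⟩
  have hconjpow : ∀ (n : G) (k : ℤ), n * a ^ k * n⁻¹ = (n * a * n⁻¹) ^ k := by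
    intro n k
    have := map_zpow (MulAut.conj n) a k
    simpa [MulAut.conj_apply] using this
  -- the quotient is commutative
  have hcomm : ∀ q1 q2 : N ⧸ S.subgroupOf N, q1 * q2 = q2 * q1 := by
    intro q1 q2
    induction q1 using QuotientGroup.induction_on with
    | H n1 =>
    induction q2 using QuotientGroup.induction_on with
    | H n2 =>
    rw [← QuotientGroup.mk_mul, ← QuotientGroup.mk_mul, QuotientGroup.eq, Subgroup.mem_subgroupOf]
    obtain ⟨k1, hk1⟩ := hpow n1 n1.2
    obtain ⟨k2, hk2⟩ := hpow n2 n2.2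
    have e12 : ((n1 : G) * n2) * a * ((n1 : G) * n2)⁻¹ = a ^ (k1 * k2) := by
      have : ((n1 : G) * n2) * a * ((n1 : G) * n2)⁻¹ = n1 * (n2 * a * (n2 : G)⁻¹) * (n1 : G)⁻¹ := by
        group
      rw [this, hk2, hconjpow, hk1, ← zpow_mul]
    have e21 : ((n2 : G) * n1) * a * ((n2 : G) * n1)⁻¹ = a ^ (k1 * k2) := by
      have : ((n2 : G) * n1) * a * ((n2 : G) * n1)⁻¹ = n2 * (n1 * a * (n1 : G)⁻¹) * (n2 : G)⁻¹ := by
        group
      rw [this, hk1, hconjpow, hk2, ← zpow_mul, mul_comm]
    set c : G := ((n1 : G) * n2)⁻¹ * ((n2 : G) * n1) with hc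
    have hca : c * a = a * c := by
      have h1 : c * a * c⁻¹ = a := by
        have : c * a * c⁻¹ =
            ((n1 : G) * n2)⁻¹ * (((n2 : G) * n1) * a * ((n2 : G) * n1)⁻¹) * ((n1 : G) * n2) := by
          rw [hc]; group
        rw [this, e21, ← e12]; group
      calc c * a = c * a * c⁻¹ * c := by group
        _ = a * c := by rw [h1]
    have hcC : c ∈ Subgroup.centralizer (S : Set G) := by
      rw [Subgroup.mem_centralizer_iff]
      intro s hs
      have hs' : s ∈ Subgroup.zpowers a := by rw [hSz]; exact hs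
      obtain ⟨j, rfl⟩ := Subgroup.mem_zpowers_iff.mp hs'
      exact ((Commute.zpow_left (show Commute a c from hca.symm) j)).eq
    rw [hC] at hcC
    simpa [hc] using hcC
  have h1 : (r 1 : DihedralGroup 4) * sr 0 = sr 0 * r 1 := by
    have := hcomm (eN.symm (r 1)) (eN.symm (sr 0))
    have h2 := congrArg eN this
    simpa using h2
  exact absurd h1 (by decide)

end Cfsg.Agent.S6U
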