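import Mathlib
import Cfsg.Agent.S0058

/-!
# S3333 / S6U, piece B: the normal-subgroup lemma (helper3)

`G` finite, `S` a Sylow 3-subgroup of order 9 and exponent 3 with `C(S) = S`,
`C(x) ≤ N(S)` for `x ∈ S#`, and `N(S)` normalizing no subgroup of order 3 of `S`.
Then every nontrivial normal subgroup `K` of `G` contains `S`, and `G = K N(S)`.
-/

set_option autoImplicit false

namespace Cfsg.Agent.S6U

open Subgroup

/-- `S` is commutative as soon as it centralizes itself. -/
theorem h3_comm {G : Type*} [Group G] (S : Subgroup G)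
    (hC : Subgroup.centralizer (S : Set G) = S) : IsMulCommutative S := by
  refine ⟨⟨?_⟩⟩
  rintro ⟨a, ha⟩ ⟨b, hb⟩
  apply Subtype.ext
  have ha' : a ∈ Subgroup.centralizer (S : Set G) := by rw [hC]; exact ha
  have := (Subgroup.mem_centralizer_iff.mp ha') b hb
  exact this.symm

/-- A group of order 9 and exponent 3 is not cyclic. -/
theorem h3_not_cyclic {G : Type*} [Group G] (S : Subgroup G) (hcard : Nat.card S = 9)
    (hexp : ∀ a ∈ S, a ^ 3 = 1) : ¬ IsCyclic S := by
  intro hcyc
  obtain ⟨g, hg⟩ := hcyc.exists_ofOrder_eq_natCard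
  rw [hcard] at hg
  have h3 : g ^ 3 = 1 := by
    apply Subtype.ext
    simpa using hexp g.1 g.2
  have := orderOf_dvd_of_pow_eq_one h3
  rw [hg] at this
  omega

/-- A normal subgroup of order divisible by 3 meets the Sylow 3-subgroup nontrivially. -/
theorem h3_meet {G : Type*} [Group G] [Finite G] (P : Sylow 3 G) (K : Subgroup G) [K.Normal]
    (h3 : 3 ∣ Nat.card K) : K ⊓ (P : Subgroup G) ≠ ⊥ := by
  have : Fact (Nat.Prime 3) := ⟨by norm_num⟩
  obtain ⟨k, hk⟩ := exists_prime_orderOf_dvd_card' 3 h3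
  have hk1 : (k : G) ≠ 1 := by
    intro h
    have : k = 1 := Subtype.ext h
    rw [this, orderOf_one] at hk
    omega
  have hko : orderOf (k : G) = 3 := by rw [Subgroup.orderOf_coe]; exact hk
  have hpg : IsPGroup 3 (Subgroup.zpowers (k : G)) := by
    apply IsPGroup.of_card (n := 1)
    rw [Nat.card_zpowers, hko]; rfl
  obtain ⟨Q, hQ⟩ := hpg.exists_le_sylow
  obtain ⟨g, hg⟩ := MulAction.exists_smul_eq G Q P
  have hkQ : (k : G) ∈ (Q : Subgroup G) := hQ (Subgroup.mem_zpowers _)
  have hmem : g * (k : G) * g⁻¹ ∈ (P : Subgroup G) := by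
    rw [← hg, Sylow.coe_subgroup_smul]
    exact ⟨(k : G), hkQ, rfl⟩
  have hmemK : g * (k : G) * g⁻¹ ∈ K := Subgroup.Normal.conj_mem inferInstance _ k.2 g
  intro hbot
  have : g * (k : G) * g⁻¹ ∈ K ⊓ (P : Subgroup G) := ⟨hmemK, hmem⟩
  rw [hbot, Subgroup.mem_bot] at this
  apply hk1
  have h2 : (k : G) = g⁻¹ * (g * (k : G) * g⁻¹) * g := by group
  rw [h2, this]; group

/-- **Piece B.** Every nontrivial normal subgroup contains `S`, and `G = K N(S)`. -/
theorem normal_sub {G : Type*} [Group G] [Finite G]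
    (P : Sylow 3 G) (S : Subgroup G) (hSP : S = P) (hcard : Nat.card S = 9)
    (hexp : ∀ a ∈ S, a ^ 3 = 1)
    (hC : Subgroup.centralizer (S : Set G) = S)
    (hcent : ∀ x ∈ S, x ≠ 1 →
      Subgroup.centralizer ({x} : Set G) ≤ Subgroup.normalizer (S : Set G))
    (hirr : ∀ T : Subgroup G, T ≤ S → Nat.card T = 3 →
      ¬ (Subgroup.normalizer (S : Set G) ≤ Subgroup.normalizer (T : Set G)))
    (K : Subgroup G) [K.Normal] (hK : K ≠ ⊥) :
    S ≤ K ∧ K ⊔ Subgroup.normalizer (S : Set G) = ⊤ := by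
  have : Fact (Nat.Prime 3) := ⟨by norm_num⟩
  have hcommS := h3_comm S hC
  have hnc := h3_not_cyclic S hcard hexp
  -- Step A: `K ⊓ S ≠ ⊥`
  have hKS : K ⊓ S ≠ ⊥ := by
    by_cases h3 : 3 ∣ Nat.card K
    · rw [hSP]; exact h3_meet P K h3
    · exfalso
      have hcop : (Nat.card S).Coprime (Nat.card K) := by
        rw [hcard]
        have : Nat.Coprime 3 (Nat.card K) := (Nat.Prime.coprime_iff_not_dvd (by norm_num)).mpr h3
        have h9 : (9 : ℕ) = 3 ^ 2 := by norm_num
        rw [h9]; exact Nat.Coprime.pow_left 2 this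
      have hSK : S ≤ Subgroup.normalizer (K : Set G) := by
        rw [Subgroup.normalizer_eq_top]; exact le_top
      have hgen := Cfsg.Agent.S0058.result S K hnc hSK hcop
      have hinf : K ⊓ S = ⊥ := by
        rw [Subgroup.eq_bot_iff_card]
        have h1 : Nat.card (K ⊓ S : Subgroup G) ∣ Nat.card K :=
          Subgroup.card_dvd_of_le inf_le_left
        have h2 : Nat.card (K ⊓ S : Subgroup G) ∣ Nat.card S :=
          Subgroup.card_dvd_of_le inf_le_right
        have := Nat.dvd_gcd h2 h1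
        rw [hcop] at this
        exact Nat.eq_one_of_dvd_one this
      have hKN : K ⊓ Subgroup.normalizer (S : Set G) ≤ ⊥ := by
        intro k hk
        have hkS : k ∈ Subgroup.centralizer (S : Set G) := by
          rw [Subgroup.mem_centralizer_iff]
          intro s hs
          have hc1 : k * s * k⁻¹ * s⁻¹ ∈ S := by
            have := (Subgroup.mem_normalizer_iff.mp hk.2 s).mp hs
            exact S.mul_mem this (S.inv_mem hs)
          have hc2 : k * s * k⁻¹ * s⁻¹ ∈ K := by
            have h1 : s * k⁻¹ * s⁻¹ ∈ K :=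
              Subgroup.Normal.conj_mem inferInstance _ (K.inv_mem hk.1) s
            have h2 : k * s * k⁻¹ * s⁻¹ = k * (s * k⁻¹ * s⁻¹) := by group
            rw [h2]; exact K.mul_mem hk.1 h1
          have : k * s * k⁻¹ * s⁻¹ ∈ K ⊓ S := ⟨hc2, hc1⟩
          rw [hinf, Subgroup.mem_bot] at this
          have h3 : s * k = (k * s * k⁻¹ * s⁻¹)⁻¹ * (k * s) := by group
          rw [h3, this]; group
        rw [hC] at hkS
        rw [← hinf]; exact ⟨hk.1, hkS⟩
      apply hK
      rw [← hgen, eq_bot_iff]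
      refine iSup₂_le fun a ha => ?_
      refine le_trans ?_ hKN
      exact inf_le_inf_left K (hcent a ha.1 ha.2)
  -- Step B: `S ≤ K`
  have hSK : S ≤ K := by
    have hdvd : Nat.card (K ⊓ S : Subgroup G) ∣ 9 := by
      rw [← hcard]; exact Subgroup.card_dvd_of_le inf_le_right
    have h9 : (9 : ℕ) = 3 ^ 2 := by norm_num
    rw [h9] at hdvd
    obtain ⟨j, hj, hcj⟩ := (Nat.dvd_prime_pow (by norm_num : Nat.Prime 3)).mp hdvd
    have hj1 : j ≠ 0 := by
      rintro rfl
      apply hKS
      rw [Subgroup.eq_bot_iff_card, hcj]; rfl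
    have hj' : j = 1 ∨ j = 2 := by omega
    rcases hj' with rfl | rfl
    · exfalso
      apply hirr (K ⊓ S) inf_le_right (by rw [hcj]; rfl)
      intro n hn
      rw [Subgroup.mem_normalizer_iff]
      intro h
      constructor
      · rintro ⟨h1, h2⟩
        exact ⟨Subgroup.Normal.conj_mem inferInstance _ h1 n,
          (Subgroup.mem_normalizer_iff.mp hn h).mp h2⟩
      · rintro ⟨h1, h2⟩
        refine ⟨?_, (Subgroup.mem_normalizer_iff.mp hn h).mpr h2⟩
        have := Subgroup.Normal.conj_mem (inferInstance : K.Normal) _ h1 n⁻¹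
        have h3 : n⁻¹ * (n * h * n⁻¹) * n⁻¹⁻¹ = h := by group
        rwa [h3] at this
    · have : K ⊓ S = S := by
        apply Subgroup.eq_of_le_of_card_ge inf_le_right
        rw [hcj, hcard]; norm_num
      rw [← this]; exact inf_le_left
  refine ⟨hSK, ?_⟩
  -- Step C: Frattini
  have hPK : (P : Subgroup G) ≤ K := by rw [← hSP]; exact hSK
  have hfr := Sylow.normalizer_sup_eq_top (P.subtype hPK)
  have hmap : ((P.subtype hPK : Sylow 3 K) : Subgroup K).map K.subtype = S := by
    rw [Sylow.coe_subtype, Subgroup.subgroupOf_map_subtype, hSP]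
    exact inf_eq_left.mpr hPK
  rw [hmap] at hfr
  rw [sup_comm]; exact hfr

end Cfsg.Agent.S6U
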