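import Mathlib
import Cfsg.Agent.S0058
import Cfsg.Agent.S6U.H3_Normal
import Cfsg.Agent.S6U.H3_Restrict

/-!
# S3333 / S6U, piece E: the cyclic case (helper1)

`G` finite, `P` a Sylow 3-subgroup of order 9 and exponent 3 with `C(x) = P` for every `x ∈ P#`
and `|N(P)|` dividing 36.  Then `P` is normal in `G` or `G ≅ A6` (the latter through the
statement of S3341, taken as a hypothesis `A6Box`).
-/

set_option autoImplicit false

namespace Cfsg.Agent.S6U

open Subgroup

universe u

/-- The statement of S3341, as a hypothesis. -/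
def A6Box : Prop := ∀ (H : Type u) [Group H] [Finite H] [IsSimpleGroup H]
    (P : Sylow 3 H) (S : Subgroup H) (_hSP : S = P) (_hcomm : IsMulCommutative S)
    (_hexp : ∀ a ∈ S, a ^ 3 = 1) (_hcard : Nat.card S = 9)
    (_hclasses : ∃ a b : H, orderOf a = 3 ∧ orderOf b = 3 ∧ ∀ g : H, g * a * g⁻¹ ≠ b)
    (_hcent : ∀ s ∈ S, s ≠ 1 → Subgroup.centralizer ({s} : Set H) = S),
    Nonempty (H ≃* alternatingGroup (Fin 6))

section basic

variable {G : Type*} [Group G]

/-- `P` is commutative when `C(x) = P` for all `x ∈ P#`. -/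
theorem h1_comm (P : Subgroup G)
    (hcent : ∀ s ∈ P, s ≠ 1 → Subgroup.centralizer ({s} : Set G) = P) : IsMulCommutative P := by
  refine ⟨⟨?_⟩⟩
  rintro ⟨a, ha⟩ ⟨b, hb⟩
  apply Subtype.ext
  show a * b = b * a
  by_cases ha1 : a = 1
  · subst ha1; simp
  · have hb' : b ∈ Subgroup.centralizer ({a} : Set G) := by rw [hcent a ha ha1]; exact hb
    exact (Subgroup.mem_centralizer_singleton_iff.mp hb').symm

/-- conjugating transports the centralizer condition -/
theorem h1_conj_mem (P : Subgroup G)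
    (hcent : ∀ s ∈ P, s ≠ 1 → Subgroup.centralizer ({s} : Set G) = P)
    (x : G) (hx : x ∈ P) (hx1 : x ≠ 1) (g : G) (hgx : g * x * g⁻¹ ∈ P) :
    g ∈ Subgroup.normalizer (P : Set G) := by
  have hne : g * x * g⁻¹ ≠ 1 := by
    intro h
    apply hx1
    have : x = g⁻¹ * (g * x * g⁻¹) * g := by group
    rw [this, h]; group
  have key : ∀ s ∈ P, g * s * g⁻¹ ∈ P := by
    intro s hs
    have hsx : s ∈ Subgroup.centralizer ({x} : Set G) := by rw [hcent x hx hx1]; exact hs
    have hsx' : s * x = x * s := Subgroup.mem_centralizer_singleton_iff.mp hsx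
    have : g * s * g⁻¹ ∈ Subgroup.centralizer ({g * x * g⁻¹} : Set G) := by
      rw [Subgroup.mem_centralizer_singleton_iff]
      calc g * s * g⁻¹ * (g * x * g⁻¹) = g * (s * x) * g⁻¹ := by group
        _ = g * (x * s) * g⁻¹ := by rw [hsx']
        _ = g * x * g⁻¹ * (g * s * g⁻¹) := by group
    rwa [hcent _ hgx hne] at this
  have key' : ∀ s ∈ P, g⁻¹ * s * g ∈ P := by
    intro s hs
    -- `x = g⁻¹ (g x g⁻¹) g`
    have hsx : s ∈ Subgroup.centralizer ({g * x * g⁻¹} : Set G) := by
      rw [hcent _ hgx hne]; exact hs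
    have hsx' : s * (g * x * g⁻¹) = g * x * g⁻¹ * s := Subgroup.mem_centralizer_singleton_iff.mp hsx
    have : g⁻¹ * s * g ∈ Subgroup.centralizer ({x} : Set G) := by
      rw [Subgroup.mem_centralizer_singleton_iff]
      calc g⁻¹ * s * g * x = g⁻¹ * (s * (g * x * g⁻¹)) * g := by group
        _ = g⁻¹ * (g * x * g⁻¹ * s) * g := by rw [hsx']
        _ = x * (g⁻¹ * s * g) := by group
    rwa [hcent _ hx hx1] at this
  rw [Subgroup.mem_normalizer_iff]
  intro h
  constructor
  · intro hh; exact key h hh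
  · intro hh
    have := key' _ hh
    have e : g⁻¹ * (g * h * g⁻¹) * g = h := by group
    rwa [e] at this

/-- **Bottom stage** (Burnside): a self-normalizing `P` is the whole group. -/
theorem h1_bottom [Finite G] (P : Sylow 3 G)
    (hcard : Nat.card ↥(P : Subgroup G) = 9) (hexp : ∀ a ∈ (P : Subgroup G), a ^ 3 = 1)
    (hcent : ∀ s ∈ (P : Subgroup G), s ≠ 1 →
      Subgroup.centralizer ({s} : Set G) = (P : Subgroup G))
    (hN : Subgroup.normalizer ((P : Subgroup G) : Set G) = (P : Subgroup G)) :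
    (P : Subgroup G) = ⊤ := by
  have : Fact (Nat.Prime 3) := ⟨by norm_num⟩
  have hcomm : IsMulCommutative (P : Subgroup G) := h1_comm _ hcent
  have hnc := h3_not_cyclic (P : Subgroup G) hcard hexp
  have hP : Subgroup.normalizer ((P : Subgroup G) : Set G) ≤
      Subgroup.centralizer ((P : Subgroup G) : Set G) := by
    rw [hN]; exact Subgroup.le_centralizer_iff_isMulCommutative.mpr hcomm
  have hcompl := MonoidHom.ker_transferSylow_isComplement' P hP
  set Q : Subgroup G := (MonoidHom.transferSylow P hP).ker with hQ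
  have hidx : (P : Subgroup G).index = Nat.card Q := hcompl.index_eq_card
  have hcop : (Nat.card ↥(P : Subgroup G)).Coprime (Nat.card Q) := by
    rw [← hidx]; exact P.card_coprime_index
  have hPQ : (P : Subgroup G) ≤ Subgroup.normalizer (Q : Set G) := by
    rw [Subgroup.normalizer_eq_top]; exact le_top
  have hgen := Cfsg.Agent.S0058.result (P : Subgroup G) Q hnc hPQ hcop
  have hdisj : Q ⊓ (P : Subgroup G) = ⊥ := hcompl.disjoint.eq_bot
  have hQbot : Q = ⊥ := by
    rw [← hgen, eq_bot_iff]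
    refine iSup₂_le fun a ha => ?_
    rw [hcent a ha.1 ha.2, hdisj]
  rw [hQbot] at hcompl
  exact Subgroup.isComplement'_bot_left.mp hcompl

/-! ### transfer of the hypotheses to a subgroup containing `P` -/

theorem h1_sub_coe (P : Sylow 3 G) (M : Subgroup G) (hPM : (P : Subgroup G) ≤ M) :
    ((P.subtype hPM : Sylow 3 ↥M) : Subgroup ↥M) = (P : Subgroup G).subgroupOf M :=
  Sylow.coe_subtype P hPM

theorem h1_sub_card (P : Sylow 3 G) (M : Subgroup G) (hPM : (P : Subgroup G) ≤ M)
    (hcard : Nat.card ↥(P : Subgroup G) = 9) :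
    Nat.card ↥((P.subtype hPM : Sylow 3 ↥M) : Subgroup ↥M) = 9 := by
  rw [h1_sub_coe, ← hcard]
  exact Nat.card_congr (Subgroup.subgroupOfEquivOfLe hPM).toEquiv

theorem h1_sub_exp (P : Sylow 3 G) (M : Subgroup G) (hPM : (P : Subgroup G) ≤ M)
    (hexp : ∀ a ∈ (P : Subgroup G), a ^ 3 = 1) :
    ∀ a ∈ ((P.subtype hPM : Sylow 3 ↥M) : Subgroup ↥M), a ^ 3 = 1 := by
  intro a ha
  rw [h1_sub_coe, Subgroup.mem_subgroupOf] at ha
  apply Subtype.ext
  simpa using hexp _ ha

theorem h1_sub_cent (P : Sylow 3 G) (M : Subgroup G) (hPM : (P : Subgroup G) ≤ M)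
    (hcent : ∀ s ∈ (P : Subgroup G), s ≠ 1 →
      Subgroup.centralizer ({s} : Set G) = (P : Subgroup G)) :
    ∀ s ∈ ((P.subtype hPM : Sylow 3 ↥M) : Subgroup ↥M), s ≠ 1 →
      Subgroup.centralizer ({s} : Set ↥M) = ((P.subtype hPM : Sylow 3 ↥M) : Subgroup ↥M) := by
  intro s hs hs1
  rw [h1_sub_coe] at hs ⊢
  rw [Subgroup.mem_subgroupOf] at hs
  have hs1' : (s : G) ≠ 1 := fun h => hs1 (Subtype.ext h)
  ext x
  rw [Subgroup.mem_centralizer_singleton_iff, Subgroup.mem_subgroupOf, ← hcent _ hs hs1',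
    Subgroup.mem_centralizer_singleton_iff]
  constructor
  · intro h
    have := congrArg Subtype.val h
    simpa using this
  · intro h
    apply Subtype.ext
    simpa using h

theorem h1_sub_normalizer (P : Sylow 3 G) (M : Subgroup G) (hPM : (P : Subgroup G) ≤ M) :
    Subgroup.normalizer (((P.subtype hPM : Sylow 3 ↥M) : Subgroup ↥M) : Set ↥M) =
      (Subgroup.normalizer ((P : Subgroup G) : Set G)).subgroupOf M := by
  rw [h1_sub_coe]
  exact (Subgroup.subgroupOf_normalizer_eq hPM).symm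

/-- **Key lemma**: a nontrivial normal subgroup contains `P`, or `P` is normal. -/
theorem h1_normal_or_le [Finite G] (P : Sylow 3 G)
    (hcard : Nat.card ↥(P : Subgroup G) = 9) (hexp : ∀ a ∈ (P : Subgroup G), a ^ 3 = 1)
    (hcent : ∀ s ∈ (P : Subgroup G), s ≠ 1 →
      Subgroup.centralizer ({s} : Set G) = (P : Subgroup G))
    (K : Subgroup G) [K.Normal] (hK : K ≠ ⊥) :
    (P : Subgroup G).Normal ∨ (P : Subgroup G) ≤ K := by
  have : Fact (Nat.Prime 3) := ⟨by norm_num⟩
  by_cases hPK : (P : Subgroup G) ≤ K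
  · exact Or.inr hPK
  left
  -- Step 1: `|K ⊓ P| < 9`
  have hlt : Nat.card (K ⊓ (P : Subgroup G) : Subgroup G) < 9 := by
    have hdvd : Nat.card (K ⊓ (P : Subgroup G) : Subgroup G) ∣ 9 := by
      rw [← hcard]; exact Subgroup.card_dvd_of_le inf_le_right
    have hle := Nat.le_of_dvd (by norm_num) hdvd
    rcases Nat.lt_or_ge (Nat.card (K ⊓ (P : Subgroup G) : Subgroup G)) 9 with h | h
    · exact h
    · exfalso
      apply hPK
      have h2 : K ⊓ (P : Subgroup G) = (P : Subgroup G) :=
        Subgroup.eq_of_le_of_card_ge inf_le_right (by rw [hcard]; exact h)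
      rw [← h2]; exact inf_le_left
  -- Step 2: `K ⊓ N(P) ≤ P`
  have hKN : ∀ k ∈ K, k ∈ Subgroup.normalizer ((P : Subgroup G) : Set G) →
      k ∈ (P : Subgroup G) := by
    intro k hkK hkN
    have hm1 : ∀ s : ↥(P : Subgroup G), k * (s : G) * k⁻¹ * (s : G)⁻¹ ∈ K := by
      intro s
      have h1 : (s : G) * k⁻¹ * (s : G)⁻¹ ∈ K :=
        Subgroup.Normal.conj_mem inferInstance _ (K.inv_mem hkK) s
      have h2 : k * (s : G) * k⁻¹ * (s : G)⁻¹ = k * ((s : G) * k⁻¹ * (s : G)⁻¹) := by group
      rw [h2]; exact K.mul_mem hkK h1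
    have hm2 : ∀ s : ↥(P : Subgroup G), k * (s : G) * k⁻¹ * (s : G)⁻¹ ∈ (P : Subgroup G) := by
      intro s
      have := (Subgroup.mem_normalizer_iff.mp hkN s).mp s.2
      exact (P : Subgroup G).mul_mem this ((P : Subgroup G).inv_mem s.2)
    let f : ↥(P : Subgroup G) → ↥(K ⊓ (P : Subgroup G) : Subgroup G) := fun s =>
      ⟨k * (s : G) * k⁻¹ * (s : G)⁻¹, hm1 s, hm2 s⟩
    have hninj : ¬ Function.Injective f := by
      intro hinj
      have := Nat.card_le_card_of_injective f hinj
      rw [hcard] at this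
      omega
    obtain ⟨s, s', heq, hne⟩ := Function.not_injective_iff.mp hninj
    have heq' : k * (s : G) * k⁻¹ * (s : G)⁻¹ = k * (s' : G) * k⁻¹ * (s' : G)⁻¹ :=
      congrArg (fun z : ↥(K ⊓ (P : Subgroup G) : Subgroup G) => (z : G)) heq
    have hu1 : (s' : G)⁻¹ * (s : G) ≠ 1 := by
      intro h; apply hne; apply Subtype.ext
      have : (s : G) = (s' : G) * ((s' : G)⁻¹ * (s : G)) := by group
      rw [this, h, mul_one]
    have huP : (s' : G)⁻¹ * (s : G) ∈ (P : Subgroup G) :=
      (P : Subgroup G).mul_mem ((P : Subgroup G).inv_mem s'.2) s.2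
    have hku : k * ((s' : G)⁻¹ * (s : G)) * k⁻¹ = (s' : G)⁻¹ * (s : G) := by
      have h1 : k * ((s' : G)⁻¹ * (s : G)) * k⁻¹ =
          (k * (s' : G) * k⁻¹)⁻¹ * (k * (s : G) * k⁻¹ * (s : G)⁻¹) * (s : G) := by group
      rw [h1, heq']; group
    have hkc : k ∈ Subgroup.centralizer ({(s' : G)⁻¹ * (s : G)} : Set G) := by
      rw [Subgroup.mem_centralizer_singleton_iff]
      calc k * ((s' : G)⁻¹ * (s : G)) = (k * ((s' : G)⁻¹ * (s : G)) * k⁻¹) * k := by group
        _ = (s' : G)⁻¹ * (s : G) * k := by rw [hku]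
    rwa [hcent _ huP hu1] at hkc
  -- Step 3: `M = K P` has `P` as a self-normalizing Sylow subgroup, so `M = P`
  have hPM : (P : Subgroup G) ≤ K ⊔ (P : Subgroup G) := le_sup_right
  have hNM : Subgroup.normalizer (((P.subtype hPM : Sylow 3 ↥(K ⊔ (P : Subgroup G))) :
      Subgroup ↥(K ⊔ (P : Subgroup G))) : Set ↥(K ⊔ (P : Subgroup G))) =
      ((P.subtype hPM : Sylow 3 ↥(K ⊔ (P : Subgroup G))) : Subgroup ↥(K ⊔ (P : Subgroup G))) := by
    rw [h1_sub_normalizer, h1_sub_coe]
    ext m
    rw [Subgroup.mem_subgroupOf, Subgroup.mem_subgroupOf]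
    constructor
    · intro hm
      have hmM : (m : G) ∈ ((K ⊔ (P : Subgroup G) : Subgroup G) : Set G) := m.2
      rw [Subgroup.normal_mul] at hmM
      obtain ⟨k, hk, s, hs, hks⟩ := Set.mem_mul.mp hmM
      have hsN : s ∈ Subgroup.normalizer ((P : Subgroup G) : Set G) :=
        Subgroup.le_normalizer hs
      have hkN : k ∈ Subgroup.normalizer ((P : Subgroup G) : Set G) := by
        have : k = (m : G) * s⁻¹ := by rw [← hks]; group
        rw [this]
        exact Subgroup.mul_mem _ hm (Subgroup.inv_mem _ hsN)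
      have hkP := hKN k hk hkN
      rw [← hks]
      exact (P : Subgroup G).mul_mem hkP hs
    · intro hm
      exact Subgroup.le_normalizer hm
  have htop := h1_bottom (P.subtype hPM) (h1_sub_card P _ hPM hcard) (h1_sub_exp P _ hPM hexp)
    (h1_sub_cent P _ hPM hcent) hNM
  have hKP : K ≤ (P : Subgroup G) := by
    intro k hk
    have hkM : k ∈ K ⊔ (P : Subgroup G) := (le_sup_left : K ≤ K ⊔ (P : Subgroup G)) hk
    have : (⟨k, hkM⟩ : ↥(K ⊔ (P : Subgroup G))) ∈
        ((P.subtype hPM : Sylow 3 ↥(K ⊔ (P : Subgroup G))) : Subgroup ↥(K ⊔ (P : Subgroup G))) := by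
      rw [htop]; exact Subgroup.mem_top _
    rw [h1_sub_coe, Subgroup.mem_subgroupOf] at this
    exact this
  -- Step 4: `P` is normal
  obtain ⟨x, hxK, hx1⟩ := (Subgroup.ne_bot_iff_exists_ne_one (H := K)).mp hK |>.imp
    (fun x hx => hx) |> fun ⟨x, hx⟩ => (⟨(x : G), x.2, fun h => hx (Subtype.ext h)⟩ :
      ∃ x : G, x ∈ K ∧ x ≠ 1)
  have hall : ∀ g : G, g ∈ Subgroup.normalizer ((P : Subgroup G) : Set G) := by
    intro g
    apply h1_conj_mem _ hcent x (hKP hxK) hx1 g
    exact hKP (Subgroup.Normal.conj_mem inferInstance _ hxK g)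
  have : Subgroup.normalizer ((P : Subgroup G) : Set G) = ⊤ := by
    rw [eq_top_iff]; intro g _; exact hall g
  exact Subgroup.normalizer_eq_top_iff.mp this

/-- Orbit-stabiliser for conjugation, `Nat.card` form. -/
theorem h1_card_conj_mul_card_centralizer [Finite G] (g : G) :
    Nat.card {x : G // IsConj g x} * Nat.card (Subgroup.centralizer ({g} : Set G)) =
      Nat.card G := by
  classical
  have := Fintype.ofFinite G
  have h := MulAction.card_orbit_mul_card_stabilizer_eq_card_group (ConjAct G) g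
  rw [← Nat.card_eq_fintype_card, ← Nat.card_eq_fintype_card, ← Nat.card_eq_fintype_card] at h
  rw [Subgroup.nat_card_centralizer_nat_card_stabilizer]
  have h2 : Nat.card (MulAction.orbit (ConjAct G) g) = Nat.card {x : G // IsConj g x} := by
    apply Nat.card_congr
    refine Equiv.subtypeEquivRight ?_
    intro x
    rw [ConjAct.mem_orbit_conjAct]
    exact ⟨fun h => h.symm, fun h => h.symm⟩
  rw [← h2, h]
  exact Nat.card_congr ConjAct.toConjAct.toEquiv.symm

/-- There are two non-conjugate elements of order 3 as soon as `|N(P)| < 72`. -/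
theorem h1_exists_nonconj [Finite G] (P : Sylow 3 G)
    (hcard : Nat.card ↥(P : Subgroup G) = 9) (hexp : ∀ a ∈ (P : Subgroup G), a ^ 3 = 1)
    (hcent : ∀ s ∈ (P : Subgroup G), s ≠ 1 →
      Subgroup.centralizer ({s} : Set G) = (P : Subgroup G))
    (hN : Nat.card ↥(Subgroup.normalizer ((P : Subgroup G) : Set G)) < 72) :
    ∃ a b : G, orderOf a = 3 ∧ orderOf b = 3 ∧ ∀ g : G, g * a * g⁻¹ ≠ b := by
  have : Fact (Nat.Prime 3) := ⟨by norm_num⟩
  have hord : ∀ s ∈ (P : Subgroup G), s ≠ 1 → orderOf s = 3 := fun s hs hs1 =>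
    orderOf_eq_prime (hexp s hs) hs1
  -- a nonidentity element of `P`
  have hnt : Nontrivial ↥(P : Subgroup G) := by
    rw [← Finite.one_lt_card_iff_nontrivial, hcard]; norm_num
  obtain ⟨a', ha'⟩ := exists_ne (1 : ↥(P : Subgroup G))
  have haP : (a' : G) ∈ (P : Subgroup G) := a'.2
  have ha1 : (a' : G) ≠ 1 := fun h => ha' (Subtype.ext h)
  by_contra hcon
  have hall : ∀ b ∈ (P : Subgroup G), b ≠ 1 → ∃ g : G, g * (a' : G) * g⁻¹ = b := by
    intro b hb hb1
    by_contra hne
    apply hcon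
    refine ⟨(a' : G), b, hord _ haP ha1, hord _ hb hb1, ?_⟩
    intro g hg
    exact hne ⟨g, hg⟩
  -- work in `N`
  have hPN : (P : Subgroup G) ≤ Subgroup.normalizer ((P : Subgroup G) : Set G) :=
    Subgroup.le_normalizer
  set N : Subgroup G := Subgroup.normalizer ((P : Subgroup G) : Set G) with hNdef
  let a : ↥N := ⟨(a' : G), hPN haP⟩
  have haM : a ∈ ((P.subtype hPN : Sylow 3 ↥N) : Subgroup ↥N) := by
    rw [h1_sub_coe, Subgroup.mem_subgroupOf]; exact haP
  have ha1' : a ≠ 1 := fun h => ha1 (congrArg Subtype.val h)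
  have hcentN := h1_sub_cent P N hPN hcent a haM ha1'
  have hcardC : Nat.card (Subgroup.centralizer ({a} : Set ↥N)) = 9 := by
    rw [hcentN]; exact h1_sub_card P N hPN hcard
  have hos := h1_card_conj_mul_card_centralizer a
  rw [hcardC] at hos
  -- the class of `a` in `N` has at least 8 elements
  have hconj : ∀ s : ↥(P : Subgroup G), (s : G) ≠ 1 →
      IsConj a (⟨(s : G), hPN s.2⟩ : ↥N) := by
    intro s hs1
    obtain ⟨g, hg⟩ := hall (s : G) s.2 hs1
    have hgN : g ∈ N := h1_conj_mem _ hcent (a' : G) haP ha1 g (by rw [hg]; exact s.2)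
    rw [isConj_iff]
    refine ⟨⟨g, hgN⟩, ?_⟩
    apply Subtype.ext
    simpa using hg
  classical
  let f : ↥(P : Subgroup G) → Option {x : ↥N // IsConj a x} := fun s =>
    if h : (s : G) = 1 then none else some ⟨⟨(s : G), hPN s.2⟩, hconj s h⟩
  have hf : Function.Injective f := by
    intro s s' hss
    by_cases h : (s : G) = 1
    · by_cases h' : (s' : G) = 1
      · apply Subtype.ext; rw [h, h']
      · simp only [f, dif_pos h, dif_neg h'] at hss
        exact absurd hss (by simp)
    · by_cases h' : (s' : G) = 1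
      · simp only [f, dif_neg h, dif_pos h'] at hss
        exact absurd hss (by simp)
      · simp only [f, dif_neg h, dif_neg h', Option.some.injEq, Subtype.mk.injEq] at hss
        exact Subtype.ext hss
  have hle := Nat.card_le_card_of_injective f hf
  rw [hcard, Finite.card_option] at hle
  have : 8 ≤ Nat.card {x : ↥N // IsConj a x} := by omega
  nlinarith

/-- In a non-simple group where `P` is not normal there is a proper normal subgroup
containing `P`. -/
theorem h1_descent [Finite G] (P : Sylow 3 G)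
    (hcard : Nat.card ↥(P : Subgroup G) = 9) (hexp : ∀ a ∈ (P : Subgroup G), a ^ 3 = 1)
    (hcent : ∀ s ∈ (P : Subgroup G), s ≠ 1 →
      Subgroup.centralizer ({s} : Set G) = (P : Subgroup G))
    (hns : ¬ IsSimpleGroup G) (hnn : ¬ (P : Subgroup G).Normal) :
    ∃ K : Subgroup G, K.Normal ∧ (P : Subgroup G) ≤ K ∧ K ≠ ⊤ := by
  have hnt : Nontrivial G := by
    have h1 : Nontrivial ↥(P : Subgroup G) := by
      rw [← Finite.one_lt_card_iff_nontrivial, hcard]; norm_num
    obtain ⟨x, y, hxy⟩ := h1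
    exact ⟨⟨(x : G), (y : G), fun h => hxy (Subtype.ext h)⟩⟩
  by_contra hcon
  apply hns
  refine { toNontrivial := hnt, eq_bot_or_eq_top_of_normal := ?_ }
  intro K hK
  by_contra hK2
  rw [not_or] at hK2
  have := hK
  rcases h1_normal_or_le P hcard hexp hcent K hK2.1 with h | h
  · exact hnn h
  · exact hcon ⟨K, hK, h, hK2.2⟩

/-- The normalizer of `P` in a subgroup `K ≥ P` has order dividing `|N_G(P)|`. -/
theorem h1_sub_norm_dvd [Finite G] (P : Sylow 3 G) (K : Subgroup G)
    (hPK : (P : Subgroup G) ≤ K) :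
    Nat.card ↥(Subgroup.normalizer (((P.subtype hPK : Sylow 3 ↥K) : Subgroup ↥K) : Set ↥K)) ∣
      Nat.card ↥(Subgroup.normalizer ((P : Subgroup G) : Set G)) := by
  rw [h1_sub_normalizer]
  let f : ↥((Subgroup.normalizer ((P : Subgroup G) : Set G)).subgroupOf K) →*
      ↥(Subgroup.normalizer ((P : Subgroup G) : Set G)) :=
    MonoidHom.codRestrict (K.subtype.comp
      ((Subgroup.normalizer ((P : Subgroup G) : Set G)).subgroupOf K).subtype)
      (Subgroup.normalizer ((P : Subgroup G) : Set G)) (fun x => x.2)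
  apply Subgroup.card_dvd_of_injective f
  intro x y hxy
  have := congrArg (fun z : ↥(Subgroup.normalizer ((P : Subgroup G) : Set G)) => (z : G)) hxy
  apply Subtype.ext
  apply Subtype.ext
  simpa [f] using this

/-- ... and it is strictly smaller when `K` is a proper normal subgroup. -/
theorem h1_sub_norm_lt [Finite G] (P : Sylow 3 G) (K : Subgroup G) [K.Normal]
    (hPK : (P : Subgroup G) ≤ K) (hK : K ≠ ⊤) :
    Nat.card ↥(Subgroup.normalizer (((P.subtype hPK : Sylow 3 ↥K) : Subgroup ↥K) : Set ↥K)) <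
      Nat.card ↥(Subgroup.normalizer ((P : Subgroup G) : Set G)) := by
  have : Fact (Nat.Prime 3) := ⟨by norm_num⟩
  have hdvd := h1_sub_norm_dvd P K hPK
  have hpos : 0 < Nat.card ↥(Subgroup.normalizer ((P : Subgroup G) : Set G)) := Nat.card_pos
  rcases lt_or_eq_of_le (Nat.le_of_dvd hpos hdvd) with h | h
  · exact h
  · exfalso
    apply hK
    have hfr := Sylow.normalizer_sup_eq_top' P hPK
    -- `N ≤ K`
    have hNK : Subgroup.normalizer ((P : Subgroup G) : Set G) ≤ K := by
      rw [h1_sub_normalizer] at h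
      intro n hn
      -- the inclusion `N.subgroupOf K → N` is a bijection by cardinality
      let f : ↥((Subgroup.normalizer ((P : Subgroup G) : Set G)).subgroupOf K) →
          ↥(Subgroup.normalizer ((P : Subgroup G) : Set G)) := fun x => ⟨((x : ↥K) : G), x.2⟩
      have hf : Function.Injective f := by
        intro x y hxy
        have := congrArg (fun z : ↥(Subgroup.normalizer ((P : Subgroup G) : Set G)) => (z : G)) hxy
        apply Subtype.ext
        apply Subtype.ext
        simpa [f] using this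
      have hsurj : Function.Surjective f := by
        have hbij : Function.Bijective f := by
          rw [Nat.bijective_iff_injective_and_card]
          exact ⟨hf, h⟩
        exact hbij.2
      obtain ⟨x, hx⟩ := hsurj ⟨n, hn⟩
      have : ((x : ↥K) : G) = n := congrArg (fun z : ↥(Subgroup.normalizer ((P : Subgroup G) : Set G)) => (z : G)) hx
      rw [← this]; exact (x : ↥K).2
    rw [eq_top_iff, ← hfr]
    exact sup_le hNK le_rfl

end basic

theorem h1_arith (m n : ℕ) (hpos : 0 < m) (h9 : 9 ∣ m) (hdvd : m ∣ n) (hlt : m < n)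
    (hn : n = 18 ∨ n = 36) : m = 9 ∨ (m = 18 ∧ n = 36) := by
  obtain ⟨c, hc⟩ := h9
  rcases hn with rfl | rfl
  · left; omega
  · have hc4 : c ∣ 4 := by
      have h1 : 9 * c ∣ 9 * 4 := by rw [← hc]; exact hdvd
      exact Nat.dvd_of_mul_dvd_mul_left (by norm_num) h1
    have hcle := Nat.le_of_dvd (by norm_num) hc4
    have hc1 : 1 ≤ c := by omega
    interval_cases c
    · left; omega
    · right; omega
    · omega
    · omega

section stages

variable {G : Type u} [Group G] [Finite G]

/-- Stage `|N(P)| = 9`. -/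
theorem h1_stage9 (P : Sylow 3 G)
    (hcard : Nat.card ↥(P : Subgroup G) = 9) (hexp : ∀ a ∈ (P : Subgroup G), a ^ 3 = 1)
    (hcent : ∀ s ∈ (P : Subgroup G), s ≠ 1 →
      Subgroup.centralizer ({s} : Set G) = (P : Subgroup G))
    (hN : Nat.card ↥(Subgroup.normalizer ((P : Subgroup G) : Set G)) = 9) :
    (P : Subgroup G).Normal := by
  have hPN : (P : Subgroup G) ≤ Subgroup.normalizer ((P : Subgroup G) : Set G) :=
    Subgroup.le_normalizer
  have hNP : Subgroup.normalizer ((P : Subgroup G) : Set G) = (P : Subgroup G) :=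
    (Subgroup.eq_of_le_of_card_ge hPN (by rw [hN, hcard])).symm
  have := h1_bottom P hcard hexp hcent hNP
  rw [this]; infer_instance

/-- The simple case, through the box. -/
theorem h1_simple_case (hbox : A6Box.{u}) (P : Sylow 3 G)
    (hcard : Nat.card ↥(P : Subgroup G) = 9) (hexp : ∀ a ∈ (P : Subgroup G), a ^ 3 = 1)
    (hcent : ∀ s ∈ (P : Subgroup G), s ≠ 1 →
      Subgroup.centralizer ({s} : Set G) = (P : Subgroup G))
    (hN : Nat.card ↥(Subgroup.normalizer ((P : Subgroup G) : Set G)) < 72)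
    [IsSimpleGroup G] : Nonempty (G ≃* alternatingGroup (Fin 6)) :=
  hbox G P (P : Subgroup G) rfl (h1_comm _ hcent) hexp hcard
    (h1_exists_nonconj P hcard hexp hcent hN) hcent

theorem h1_card_A6 : Nat.card (alternatingGroup (Fin 6)) = 360 := by
  have h2 := two_mul_nat_card_alternatingGroup (α := Fin 6)
  rw [Nat.card_perm, Nat.card_fin] at h2
  have : Nat.factorial 6 = 720 := by decide
  omega

/-- Stage `|N(P)| = 18`. -/
theorem h1_stage18 (hbox : A6Box.{u}) (P : Sylow 3 G)
    (hcard : Nat.card ↥(P : Subgroup G) = 9) (hexp : ∀ a ∈ (P : Subgroup G), a ^ 3 = 1)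
    (hcent : ∀ s ∈ (P : Subgroup G), s ≠ 1 →
      Subgroup.centralizer ({s} : Set G) = (P : Subgroup G))
    (hN : Nat.card ↥(Subgroup.normalizer ((P : Subgroup G) : Set G)) = 18) :
    (P : Subgroup G).Normal := by
  have : Fact (Nat.Prime 3) := ⟨by norm_num⟩
  by_contra hnn
  by_cases hs : IsSimpleGroup G
  · obtain ⟨e⟩ := h1_simple_case hbox P hcard hexp hcent (by omega)
    have hG : Nat.card G = 360 := by
      rw [Nat.card_congr e.toEquiv]; exact h1_card_A6
    have h3 := card_sylow_modEq_one 3 G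
    rw [Sylow.card_eq_index_normalizer P] at h3
    have h4 := Subgroup.index_mul_card (Subgroup.normalizer ((P : Subgroup G) : Set G))
    rw [hN, hG] at h4
    have h5 : (Subgroup.normalizer ((P : Subgroup G) : Set G)).index = 20 := by omega
    have h3' : (Subgroup.normalizer ((P : Subgroup G) : Set G)).index ≡ 1 [MOD 3] := h3
    rw [h5] at h3'
    exact absurd h3' (by decide)
  · obtain ⟨K, hKn, hPK, hKtop⟩ := h1_descent P hcard hexp hcent hs hnn
    have := hKn
    have hdvd := h1_sub_norm_dvd P K hPK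
    have hlt := h1_sub_norm_lt P K hPK hKtop
    have h9 : 9 ∣ Nat.card ↥(Subgroup.normalizer
        (((P.subtype hPK : Sylow 3 ↥K) : Subgroup ↥K) : Set ↥K)) := by
      rw [← h1_sub_card P K hPK hcard]
      exact Subgroup.card_dvd_of_le Subgroup.le_normalizer
    rw [hN] at hdvd hlt
    have hm : Nat.card ↥(Subgroup.normalizer
        (((P.subtype hPK : Sylow 3 ↥K) : Subgroup ↥K) : Set ↥K)) = 9 := by
      rcases h1_arith _ 18 Nat.card_pos h9 hdvd hlt (Or.inl rfl) with h | h
      · exact h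
      · omega
    have hn := h1_stage9 (P.subtype hPK) (h1_sub_card P K hPK hcard) (h1_sub_exp P K hPK hexp)
      (h1_sub_cent P K hPK hcent) hm
    rw [h1_sub_coe] at hn
    exact hnn (h3_normal_of_normal_subgroupOf P hPK hn)

/-- Stage `|N(P)| = 36`. -/
theorem h1_stage36 (hbox : A6Box.{u}) (P : Sylow 3 G)
    (hcard : Nat.card ↥(P : Subgroup G) = 9) (hexp : ∀ a ∈ (P : Subgroup G), a ^ 3 = 1)
    (hcent : ∀ s ∈ (P : Subgroup G), s ≠ 1 →
      Subgroup.centralizer ({s} : Set G) = (P : Subgroup G))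
    (hN : Nat.card ↥(Subgroup.normalizer ((P : Subgroup G) : Set G)) = 36) :
    (P : Subgroup G).Normal ∨ Nonempty (G ≃* alternatingGroup (Fin 6)) := by
  have : Fact (Nat.Prime 3) := ⟨by norm_num⟩
  by_cases hnn : (P : Subgroup G).Normal
  · exact Or.inl hnn
  by_cases hs : IsSimpleGroup G
  · exact Or.inr (h1_simple_case hbox P hcard hexp hcent (by omega))
  · left
    obtain ⟨K, hKn, hPK, hKtop⟩ := h1_descent P hcard hexp hcent hs hnn
    have := hKn
    have hdvd := h1_sub_norm_dvd P K hPK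
    have hlt := h1_sub_norm_lt P K hPK hKtop
    have h9 : 9 ∣ Nat.card ↥(Subgroup.normalizer
        (((P.subtype hPK : Sylow 3 ↥K) : Subgroup ↥K) : Set ↥K)) := by
      rw [← h1_sub_card P K hPK hcard]
      exact Subgroup.card_dvd_of_le Subgroup.le_normalizer
    rw [hN] at hdvd hlt
    have hn : ((P.subtype hPK : Sylow 3 ↥K) : Subgroup ↥K).Normal := by
      rcases h1_arith _ 36 Nat.card_pos h9 hdvd hlt (Or.inr rfl) with h | h
      · exact h1_stage9 (P.subtype hPK) (h1_sub_card P K hPK hcard) (h1_sub_exp P K hPK hexp)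
          (h1_sub_cent P K hPK hcent) h
      · exact h1_stage18 hbox (P.subtype hPK) (h1_sub_card P K hPK hcard)
          (h1_sub_exp P K hPK hexp) (h1_sub_cent P K hPK hcent) h.1
    rw [h1_sub_coe] at hn
    exact h3_normal_of_normal_subgroupOf P hPK hn

/-- **Piece E: the cyclic case.** -/
theorem cyclic_case (hbox : A6Box.{u}) (P : Sylow 3 G)
    (hcard : Nat.card ↥(P : Subgroup G) = 9) (hexp : ∀ a ∈ (P : Subgroup G), a ^ 3 = 1)
    (hcent : ∀ s ∈ (P : Subgroup G), s ≠ 1 →
      Subgroup.centralizer ({s} : Set G) = (P : Subgroup G))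
    (hN : Nat.card ↥(Subgroup.normalizer ((P : Subgroup G) : Set G)) ∣ 36) :
    (P : Subgroup G).Normal ∨ Nonempty (G ≃* alternatingGroup (Fin 6)) := by
  have h9 : 9 ∣ Nat.card ↥(Subgroup.normalizer ((P : Subgroup G) : Set G)) := by
    rw [← hcard]
    exact Subgroup.card_dvd_of_le Subgroup.le_normalizer
  obtain ⟨c, hc⟩ := h9
  have hc4 : c ∣ 4 := by
    have h1 : 9 * c ∣ 9 * 4 := by rw [← hc]; exact hN
    exact Nat.dvd_of_mul_dvd_mul_left (by norm_num) h1
  have hcle := Nat.le_of_dvd (by norm_num) hc4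
  have hpos : 0 < Nat.card ↥(Subgroup.normalizer ((P : Subgroup G) : Set G)) := Nat.card_pos
  have hc1 : 1 ≤ c := by omega
  interval_cases c
  · exact Or.inl (h1_stage9 P hcard hexp hcent (by omega))
  · exact Or.inl (h1_stage18 hbox P hcard hexp hcent (by omega))
  · omega
  · exact h1_stage36 hbox P hcard hexp hcent (by omega)

end stages

end Cfsg.Agent.S6U
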