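import Mathlib
import Cfsg.Agent.S6U.H3_Normal

/-!
# S3333 / S6U, piece C: descent to a normal subgroup of index 2 (helper3)

From `¬ IsSimpleGroup G` (supplied by S3716) and the normal-subgroup lemma (piece B) we get a normal
subgroup `G1` of index `2` containing `S` with `|N_G(S) ∩ G1| = 36`.
-/

set_option autoImplicit false

namespace Cfsg.Agent.S6U

open Subgroup

/-- A nontrivial finite `2`-group has a normal subgroup of index `2`. -/
theorem h3_exists_index_two {Q : Type*} [Group Q] [Finite Q] (k : ℕ) (hk : 1 ≤ k)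
    (hQ : Nat.card Q = 2 ^ k) : ∃ H : Subgroup Q, H.Normal ∧ H.index = 2 := by
  have : Fact (Nat.Prime 2) := ⟨Nat.prime_two⟩
  have hdvd : 2 ^ (k - 1) ∣ Nat.card Q := by
    rw [hQ]; exact pow_dvd_pow 2 (by omega)
  obtain ⟨H, hH⟩ := Sylow.exists_subgroup_card_pow_prime 2 hdvd
  have hidx : H.index = 2 := by
    have h1 := H.card_mul_index
    rw [hH, hQ] at h1
    have h2 : (2 : ℕ) ^ k = 2 ^ (k - 1) * 2 := by
      rw [← pow_succ]; congr 1; omega
    rw [h2] at h1
    exact Nat.eq_of_mul_eq_mul_left (by positivity) h1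
  exact ⟨H, Subgroup.normal_of_index_eq_two hidx, hidx⟩

/-- `|N : S| = 8` from `|N| = 72`, `|S| = 9`. -/
theorem h3_relIndex_eight {G : Type*} [Group G] (S : Subgroup G) (hcard : Nat.card S = 9)
    (hN72 : Nat.card (Subgroup.normalizer (S : Set G)) = 72) :
    S.relIndex (Subgroup.normalizer (S : Set G)) = 8 := by
  have h := Subgroup.relIndex_mul_relIndex ⊥ S (Subgroup.normalizer (S : Set G)) bot_le
    Subgroup.le_normalizer
  rw [Subgroup.relIndex_bot_left, Subgroup.relIndex_bot_left, hcard, hN72] at h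
  omega

/-- **Piece C.** Descent to index 2. -/
theorem descent {G : Type*} [Group G] [Finite G]
    (P : Sylow 3 G) (S : Subgroup G) (hSP : S = P) (hcard : Nat.card S = 9)
    (hexp : ∀ a ∈ S, a ^ 3 = 1)
    (hC : Subgroup.centralizer (S : Set G) = S)
    (hcent : ∀ x ∈ S, x ≠ 1 →
      Subgroup.centralizer ({x} : Set G) ≤ Subgroup.normalizer (S : Set G))
    (hirr : ∀ T : Subgroup G, T ≤ S → Nat.card T = 3 →
      ¬ (Subgroup.normalizer (S : Set G) ≤ Subgroup.normalizer (T : Set G)))
    (hN72 : Nat.card (Subgroup.normalizer (S : Set G)) = 72)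
    (hns : ¬ IsSimpleGroup G) :
    ∃ G1 : Subgroup G, G1.Normal ∧ G1.index = 2 ∧ S ≤ G1 ∧
      Nat.card (Subgroup.normalizer (S : Set G) ⊓ G1 : Subgroup G) = 36 := by
  -- a proper nontrivial normal subgroup
  have hex : ∃ K : Subgroup G, K.Normal ∧ K ≠ ⊥ ∧ K ≠ ⊤ := by
    by_contra hno
    apply hns
    have hnt : Nontrivial G := by
      have : Nontrivial S := by
        rw [← Finite.one_lt_card_iff_nontrivial, hcard]; norm_num
      obtain ⟨a, b, hab⟩ := this
      exact ⟨⟨a, b, fun h => hab (Subtype.ext h)⟩⟩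
    refine { exists_pair_ne := hnt.exists_pair_ne, eq_bot_or_eq_top_of_normal := ?_ }
    intro K hK
    by_contra h
    rw [not_or] at h
    exact hno ⟨K, hK, h.1, h.2⟩
  obtain ⟨K, hKn, hKb, hKt⟩ := hex
  obtain ⟨hSK, hsup⟩ := normal_sub P S hSP hcard hexp hC hcent hirr K hKb
  -- `|G : K|` divides 8
  have h8 := h3_relIndex_eight S hcard hN72
  have hidx : K.index = K.relIndex (Subgroup.normalizer (S : Set G)) := by
    rw [← Subgroup.relIndex_top_right, ← hsup, sup_comm, Subgroup.relIndex_sup_right]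
  have hdvd : K.index ∣ 8 := by
    rw [hidx, ← h8]
    exact Subgroup.relIndex_dvd_of_le_left _ hSK
  have hne1 : K.index ≠ 1 := by
    rw [Ne, Subgroup.index_eq_one]; exact hKt
  have h8' : (8 : ℕ) = 2 ^ 3 := by norm_num
  rw [h8'] at hdvd
  obtain ⟨k, hk3, hk⟩ := (Nat.dvd_prime_pow Nat.prime_two).mp hdvd
  have hk1 : 1 ≤ k := by
    rcases Nat.eq_zero_or_pos k with rfl | h
    · exact absurd hk hne1
    · exact h
  have hQ : Nat.card (G ⧸ K) = 2 ^ k := by
    rw [← Subgroup.index_eq_card]; exact hk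
  obtain ⟨H, hHn, hHi⟩ := h3_exists_index_two k hk1 hQ
  refine ⟨H.comap (QuotientGroup.mk' K), hHn.comap _, ?_, ?_, ?_⟩
  · rw [Subgroup.index_comap_of_surjective _ (QuotientGroup.mk'_surjective K)]; exact hHi
  · refine le_trans hSK ?_
    have : K = (QuotientGroup.mk' K).ker := (QuotientGroup.ker_mk' K).symm
    intro x hx
    rw [Subgroup.mem_comap]
    have hx' : x ∈ (QuotientGroup.mk' K).ker := by rw [← this]; exact hx
    rw [MonoidHom.mem_ker] at hx'
    rw [hx']; exact H.one_mem
  · set G1 := H.comap (QuotientGroup.mk' K) with hG1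
    have hG1n : G1.Normal := hHn.comap _
    have hG1i : G1.index = 2 := by
      rw [hG1, Subgroup.index_comap_of_surjective _ (QuotientGroup.mk'_surjective K)]; exact hHi
    have hKG1 : K ≤ G1 := by
      intro x hx
      rw [hG1, Subgroup.mem_comap]
      have hx' : x ∈ (QuotientGroup.mk' K).ker := by rw [QuotientGroup.ker_mk']; exact hx
      rw [MonoidHom.mem_ker] at hx'
      rw [hx']; exact H.one_mem
    have hsup1 : Subgroup.normalizer (S : Set G) ⊔ G1 = ⊤ := by
      rw [eq_top_iff, ← hsup, sup_comm]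
      exact sup_le_sup_left hKG1 _
    have hrel : G1.relIndex (Subgroup.normalizer (S : Set G)) = 2 := by
      rw [← Subgroup.relIndex_sup_right, hsup1, Subgroup.relIndex_top_right, hG1i]
    have h := Subgroup.relIndex_mul_relIndex ⊥ (Subgroup.normalizer (S : Set G) ⊓ G1)
      (Subgroup.normalizer (S : Set G)) bot_le inf_le_left
    rw [Subgroup.relIndex_bot_left, Subgroup.relIndex_bot_left, hN72, inf_comm,
      Subgroup.inf_relIndex_right, hrel] at h
    rw [inf_comm]
    omega

end Cfsg.Agent.S6U
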