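import Mathlib
import Cfsg.Prelude.Def_Transfer
import Cfsg.Agent.S6U.H3_Restrict

/-!
# S3333 / S6U, piece D: the Klein case (helper3)

If `G1 ⊴ G` contains `S` and `N_{G1}(S)/S` is a Klein four-group (`|N ∩ G1| = 36` and
`n² ∈ S` for all `n ∈ N ∩ G1`), then S3805 (taken as a black box `KleinBox`, to be instantiated by
`Cfsg.Agent.S3805.result`) applied to the group `↥G1` shows that `S` is normal in `G1`, hence in `G`.
-/

set_option autoImplicit false

namespace Cfsg.Agent.S6U

open Subgroup

/-- Verbatim the statement of S3805 (instantiate with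
`fun _ _ _ T hT hcard hC _ hK hloc => Cfsg.Agent.S3805.result T hT hcard hC hK hloc`). -/
def KleinBox.{u} : Prop :=
  ∀ (H : Type u) [Group H] [Finite H]
    (T : Sylow 3 H) (_ : Cfsg.IsElementaryAbelian 3 (T : Subgroup H)) (_ : Nat.card T = 9)
    (_ : Subgroup.centralizer ((T : Subgroup H) : Set H) = T)
    [_hn : ((T : Subgroup H).subgroupOf (Subgroup.normalizer ((T : Subgroup H) : Set H))).Normal]
    (_ : IsKleinFour (↥(Subgroup.normalizer ((T : Subgroup H) : Set H)) ⧸
      (T : Subgroup H).subgroupOf (Subgroup.normalizer ((T : Subgroup H) : Set H))))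
    (_ : ∀ t ∈ (T : Subgroup H), t ≠ 1 →
      Subgroup.centralizer ({t} : Set H) ≤ Subgroup.normalizer ((T : Subgroup H) : Set H)),
    Subgroup.normalizer ((T : Subgroup H) : Set H) = ⊤

/-- **Piece D.** The Klein case: `S` is normal in `G`. -/
theorem klein_case.{u} {G : Type u} [Group G] [Finite G] (hbox : KleinBox.{u})
    (P : Sylow 3 G) (S : Subgroup G) (hSP : S = P) (hcard : Nat.card S = 9)
    (hexp : ∀ a ∈ S, a ^ 3 = 1)
    (hC : Subgroup.centralizer (S : Set G) = S)
    (hcent : ∀ x ∈ S, x ≠ 1 →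
      Subgroup.centralizer ({x} : Set G) ≤ Subgroup.normalizer (S : Set G))
    (G1 : Subgroup G) [G1.Normal] (hSG1 : S ≤ G1)
    (h36 : Nat.card (Subgroup.normalizer (S : Set G) ⊓ G1 : Subgroup G) = 36)
    (hsq : ∀ n ∈ Subgroup.normalizer (S : Set G) ⊓ G1, n ^ 2 ∈ S) : S.Normal := by
  subst hSP
  have hPG1 : (P : Subgroup G) ≤ G1 := hSG1
  set T : Sylow 3 G1 := P.subtype hPG1 with hTdef
  have hTcoe : (T : Subgroup G1) = (P : Subgroup G).subgroupOf G1 := Sylow.coe_subtype P hPG1
  have hmem : ∀ y : G1, y ∈ (T : Subgroup G1) ↔ (y : G) ∈ (P : Subgroup G) := by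
    intro y; rw [hTcoe, Subgroup.mem_subgroupOf]
  -- elementary abelian
  have hT : Cfsg.IsElementaryAbelian 3 (T : Subgroup G1) := by
    constructor
    · refine ⟨⟨?_⟩⟩
      rintro ⟨a, ha⟩ ⟨b, hb⟩
      apply Subtype.ext
      apply Subtype.ext
      rw [hTcoe, Subgroup.mem_subgroupOf] at ha hb
      have ha' : (a : G) ∈ Subgroup.centralizer ((P : Subgroup G) : Set G) := by
        rw [hC]; exact ha
      exact ((Subgroup.mem_centralizer_iff.mp ha') (b : G) hb).symm
    · intro a ha
      rw [hTcoe, Subgroup.mem_subgroupOf] at ha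
      apply Subtype.ext
      simpa using hexp (a : G) ha
  have hcardT : Nat.card T = 9 := by
    rw [hTcoe, h3_card_subgroupOf hPG1, hcard]
  have hCT : Subgroup.centralizer ((T : Subgroup G1) : Set G1) = T := by
    rw [hTcoe, h3_centralizer_subgroupOf hPG1, hC]
  have hlocT : ∀ t ∈ (T : Subgroup G1), t ≠ 1 →
      Subgroup.centralizer ({t} : Set G1) ≤ Subgroup.normalizer ((T : Subgroup G1) : Set G1) := by
    rw [hTcoe]; exact h3_loc_subgroupOf hPG1 hcent
  -- the normalizer in `G1`
  have hN1 : Subgroup.normalizer ((T : Subgroup G1) : Set G1) =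
      (Subgroup.normalizer ((P : Subgroup G) : Set G)).subgroupOf G1 := by
    rw [hTcoe, h3_normalizer_subgroupOf hPG1]
  have hmemN : ∀ y : G1, y ∈ Subgroup.normalizer ((T : Subgroup G1) : Set G1) ↔
      (y : G) ∈ Subgroup.normalizer ((P : Subgroup G) : Set G) := by
    intro y; rw [hN1, Subgroup.mem_subgroupOf]
  have hcardN1 : Nat.card (Subgroup.normalizer ((T : Subgroup G1) : Set G1)) = 36 := by
    rw [hN1, ← Subgroup.inf_subgroupOf_right, h3_card_subgroupOf inf_le_right, h36]
  have hK : IsKleinFour (↥(Subgroup.normalizer ((T : Subgroup G1) : Set G1)) ⧸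
      (T : Subgroup G1).subgroupOf (Subgroup.normalizer ((T : Subgroup G1) : Set G1))) := by
    have hc4 : Nat.card (↥(Subgroup.normalizer ((T : Subgroup G1) : Set G1)) ⧸
        (T : Subgroup G1).subgroupOf (Subgroup.normalizer ((T : Subgroup G1) : Set G1))) = 4 := by
      rw [← Subgroup.index_eq_card]
      have h1 := ((T : Subgroup G1).subgroupOf
        (Subgroup.normalizer ((T : Subgroup G1) : Set G1))).card_mul_index
      rw [h3_card_subgroupOf Subgroup.le_normalizer, hcardN1] at h1
      have h9 : Nat.card (T : Subgroup G1) = 9 := hcardT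
      rw [h9] at h1
      omega
    refine ⟨hc4, ?_⟩
    have hdvd : Monoid.exponent (↥(Subgroup.normalizer ((T : Subgroup G1) : Set G1)) ⧸
        (T : Subgroup G1).subgroupOf (Subgroup.normalizer ((T : Subgroup G1) : Set G1))) ∣ 2 := by
      apply Monoid.exponent_dvd_of_forall_pow_eq_one
      intro q
      induction q using QuotientGroup.induction_on with
      | H n =>
        rw [← QuotientGroup.mk_pow, QuotientGroup.eq_one_iff, Subgroup.mem_subgroupOf]
        refine (hmem _).mpr ?_
        have hn : ((n : G1) : G) ∈ Subgroup.normalizer ((P : Subgroup G) : Set G) ⊓ G1 := by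
          exact ⟨(hmemN _).mp n.2, (n : G1).2⟩
        simpa using hsq _ hn
    have hne1 : Monoid.exponent (↥(Subgroup.normalizer ((T : Subgroup G1) : Set G1)) ⧸
        (T : Subgroup G1).subgroupOf (Subgroup.normalizer ((T : Subgroup G1) : Set G1))) ≠ 1 := by
      intro h1
      rw [Monoid.exp_eq_one_iff] at h1
      have := Nat.card_eq_one_iff_unique.mpr ⟨h1, ⟨1⟩⟩
      omega
    have := (Nat.dvd_prime Nat.prime_two).mp hdvd
    tauto
  have htop := hbox G1 T hT hcardT hCT hK hlocT
  have hnT : ((P : Subgroup G).subgroupOf G1).Normal := by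
    rw [← hTcoe]
    exact Subgroup.normalizer_eq_top_iff.mp htop
  exact h3_normal_of_normal_subgroupOf P hPG1 hnT

end Cfsg.Agent.S6U
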