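import Mathlib
import Cfsg.Agent.Helper6.H72A

/-!
# S3333 / S6U: facts about the model `M72 = (ℤ/3)² ⋊ D₄` (helper7)
-/

set_option autoImplicit false

namespace Cfsg.Agent.S6U

open Cfsg.Agent.Helper6.H72 DihedralGroup

/-- `D₄`-orbits on vectors are `⟨r⟩`-orbits. -/
theorem h7_orbit : ∀ (d : D4) (v : ZMod 3 × ZMod 3), ∃ k : ZMod 4, act d v = act (r k) v := by
  decide

/-- the rotations act freely on nonzero vectors -/
theorem h7_rot_free : ∀ (k : ZMod 4) (v : ZMod 3 × ZMod 3), v ≠ 0 → act (r k) v = v → k = 0 := by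
  decide

/-- the rotation `r 1` has no eigenvector -/
theorem h7_no_eigen : ∀ v : ZMod 3 × ZMod 3, v ≠ 0 →
    act (r 1) v ≠ 0 ∧ act (r 1) v ≠ v ∧ act (r 1) v ≠ -v := by
  decide

/-- non-involutions of `D₄` -/
theorem h7_sq_ne_one : ∀ d : D4, d * d ≠ 1 → d = r 1 ∨ d = r 3 := by
  decide

theorem h7_r_three_inv : (r 3 : D4)⁻¹ = r 1 := by decide

theorem h7_r_pow : ∀ k : ZMod 4, (r k : D4) = r 1 ^ k.val := by decide

theorem h7_sr_eq : ∀ i k : ZMod 4, (sr k : D4) = sr i * r 1 ^ (k - i).val := by decide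

theorem h7_D4_cases : ∀ d : D4, (∃ k : ZMod 4, d = r k) ∨ ∃ k : ZMod 4, d = sr k := by
  decide

theorem h7_act_zero : ∀ d : D4, act d 0 = 0 := by decide

theorem h7_act_neg : ∀ (d : D4) (v : ZMod 3 × ZMod 3), act d (-v) = -act d v := by decide

theorem h7_act_eq_zero : ∀ (d : D4) (v : ZMod 3 × ZMod 3), act d v = 0 → v = 0 := by decide

/-- conjugation formula in the model -/
theorem h7_conj_mk : ∀ (m : M72) (i j : ZMod 3),
    m * mk i j 1 * m⁻¹ = mk (act m.right (i, j)).1 (act m.right (i, j)).2 1 := by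
  decide +kernel

theorem h7_eq_mk (t : M72) (ht : t.right = 1) : t = mk t.left.toAdd.1 t.left.toAdd.2 1 := by
  apply SemidirectProduct.ext
  · rfl
  · exact ht

theorem h7_mk_right (i j : ZMod 3) (d : D4) : (mk i j d).right = d := rfl

theorem h7_mk_left (i j : ZMod 3) (d : D4) : (mk i j d).left.toAdd = (i, j) := rfl

/-- conjugation of an element of the normal subgroup -/
theorem h7_conj (m t : M72) (ht : t.right = 1) :
    (m * t * m⁻¹).right = 1 ∧ (m * t * m⁻¹).left.toAdd = act m.right t.left.toAdd := by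
  have h1 := h7_eq_mk t ht
  have h2 := h7_conj_mk m t.left.toAdd.1 t.left.toAdd.2
  rw [← h1] at h2
  rw [h2]
  exact ⟨rfl, rfl⟩

/-- commuting with a nonzero vector -/
theorem h7_commute (m t : M72) (ht : t.right = 1) (hc : m * t = t * m) :
    act m.right t.left.toAdd = t.left.toAdd := by
  have h := (h7_conj m t ht).2
  rw [← h, hc, mul_inv_cancel_right]

theorem h7_mk_one_iff (t : M72) (ht : t.right = 1) : t = 1 ↔ t.left.toAdd = 0 := by
  constructor
  · intro h; rw [h]; rfl
  · intro h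
    apply SemidirectProduct.ext
    · show t.left = 1
      have : t.left = Multiplicative.ofAdd t.left.toAdd := rfl
      rw [this, h]; rfl
    · exact ht

theorem h7_inv_left (t : M72) (ht : t.right = 1) : (t⁻¹).right = 1 ∧ (t⁻¹).left.toAdd = -t.left.toAdd := by
  have h1 := h7_eq_mk t ht
  have key : ∀ i j : ZMod 3, ((mk i j 1)⁻¹).right = 1 ∧ ((mk i j 1)⁻¹).left.toAdd = -(i, j) := by
    decide +kernel
  rw [h1]
  exact key _ _

end Cfsg.Agent.S6U
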