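-- helper9: S3333 / S6U piece F: a group with a normal subgroup of index 2 isomorphic to A6,
-- acting faithfully on it and preserving its class of "three-cycles", is isomorphic to S6.
import Mathlib
import Cfsg.Agent.Helper4.AutAltB

set_option autoImplicit false

namespace Cfsg.Agent.S6U

open Equiv

/-- Conjugation invariance of `IsThreeCycle`. -/
theorem h9_isThreeCycle_conj {σ τ : Perm (Fin 6)} (h : σ.IsThreeCycle) :
    (τ * σ * τ⁻¹).IsThreeCycle := by
  unfold Perm.IsThreeCycle at h ⊢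
  rw [Perm.cycleType_conj]
  exact h

section

variable {G : Type*} [Group G] (G1 : Subgroup G) [G1.Normal]
  (ψ : ↥G1 ≃* alternatingGroup (Fin 6))

/-- The elements of `G1` mapped to three-cycles by `ψ` are exactly the `G1`-conjugates of one of
them. -/
theorem h9_threeCycle_iff (a' : ↥G1)
    (ha3 : ((ψ a' : alternatingGroup (Fin 6)) : Perm (Fin 6)).IsThreeCycle) (x : ↥G1) :
    ((ψ x : alternatingGroup (Fin 6)) : Perm (Fin 6)).IsThreeCycle ↔
      ∃ w : ↥G1, x = w * a' * w⁻¹ := by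
  constructor
  · intro hx
    have hconj : IsConj (ψ a') (ψ x) :=
      alternatingGroup.isThreeCycle_isConj (by simp) ha3 hx
    obtain ⟨u, hu⟩ := isConj_iff.mp hconj
    refine ⟨ψ.symm u, ?_⟩
    apply ψ.injective
    rw [map_mul, map_mul, map_inv, MulEquiv.apply_symm_apply, hu]
  · rintro ⟨w, rfl⟩
    rw [map_mul, map_mul, map_inv]
    have := h9_isThreeCycle_conj (τ := ((ψ w : alternatingGroup (Fin 6)) : Perm (Fin 6))) ha3
    simpa using this

/-- The automorphism of `A6` induced by `g : G`. -/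
noncomputable def h9_beta : G →* MulAut (alternatingGroup (Fin 6)) :=
  (MulAut.congr ψ).toMonoidHom.comp (MulAut.conjNormal : G →* MulAut ↥G1)

theorem h9_beta_apply (g : G) (c : alternatingGroup (Fin 6)) :
    h9_beta G1 ψ g c = ψ (MulAut.conjNormal g (ψ.symm c)) := rfl

theorem h9_beta_threeCycle (a : G) (haG1 : a ∈ G1)
    (ha3 : ((ψ ⟨a, haG1⟩ : alternatingGroup (Fin 6)) : Perm (Fin 6)).IsThreeCycle)
    (hcl : ∀ g : G, ∃ h ∈ G1, g * a * g⁻¹ = h * a * h⁻¹) (g : G)
    (c : alternatingGroup (Fin 6)) (hc : (c : Perm (Fin 6)).IsThreeCycle) :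
    ((h9_beta G1 ψ g c : alternatingGroup (Fin 6)) : Perm (Fin 6)).IsThreeCycle := by
  rw [h9_beta_apply]
  rw [h9_threeCycle_iff G1 ψ ⟨a, haG1⟩ ha3]
  have hc' : ((ψ (ψ.symm c) : alternatingGroup (Fin 6)) : Perm (Fin 6)).IsThreeCycle := by
    rw [MulEquiv.apply_symm_apply]
    exact hc
  obtain ⟨w, hw⟩ := (h9_threeCycle_iff G1 ψ ⟨a, haG1⟩ ha3 (ψ.symm c)).mp hc'
  obtain ⟨h, hh, hgh⟩ := hcl g
  refine ⟨MulAut.conjNormal g w * ⟨h, hh⟩, ?_⟩
  rw [hw]
  apply Subtype.ext
  simp only [map_mul, map_inv, Subgroup.coe_mul, Subgroup.coe_inv, MulAut.conjNormal_apply]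
  rw [hgh]
  group

end

/-- **Piece F.** -/
theorem h9_iso_perm_six {G : Type*} [Group G] [Finite G] (G1 : Subgroup G) [G1.Normal]
    (hidx : G1.index = 2) (ψ : ↥G1 ≃* alternatingGroup (Fin 6))
    (hcent : ∀ g : G, (∀ h ∈ G1, g * h = h * g) → g = 1)
    (a : G) (haG1 : a ∈ G1)
    (ha3 : ((ψ ⟨a, haG1⟩ : alternatingGroup (Fin 6)) : Perm (Fin 6)).IsThreeCycle)
    (hcl : ∀ g : G, ∃ h ∈ G1, g * a * g⁻¹ = h * a * h⁻¹) :
    Nonempty (G ≃* Perm (Fin 6)) := by
  classical
  set R : Perm (Fin 6) →* MulAut (alternatingGroup (Fin 6)) := MulAut.conjNormal with hR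
  have hRinj : Function.Injective R :=
    Cfsg.Agent.Helper4.AutAlt.injective_conjNormal (Ω := Fin 6) (by simp)
  have hmem : ∀ g : G, h9_beta G1 ψ g ∈ R.range := by
    intro g
    exact Cfsg.Agent.Helper4.AutAlt.mem_range_conjNormal_of_threeCycle (Ω := Fin 6) (by simp)
      (h9_beta G1 ψ g) (h9_beta_threeCycle G1 ψ a haG1 ha3 hcl g)
  let β' : G →* R.range := (h9_beta G1 ψ).codRestrict R.range hmem
  let φ : G →* Perm (Fin 6) := (MonoidHom.ofInjective hRinj).symm.toMonoidHom.comp β'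
  have hφinj : Function.Injective φ := by
    rw [injective_iff_map_eq_one]
    intro g hg
    have h1 : β' g = 1 := by
      have : (MonoidHom.ofInjective hRinj).symm (β' g) = 1 := hg
      exact (MulEquiv.map_eq_one_iff _).mp this
    have h2 : h9_beta G1 ψ g = 1 := by
      have := congrArg Subtype.val h1
      simpa [β'] using this
    apply hcent
    intro h hh
    have h3 : h9_beta G1 ψ g (ψ ⟨h, hh⟩) = ψ ⟨h, hh⟩ := by
      rw [h2]
      rfl
    rw [h9_beta_apply, MulEquiv.symm_apply_apply] at h3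
    have h4 := ψ.injective h3
    have h5 := congrArg Subtype.val h4
    simp only [MulAut.conjNormal_apply] at h5
    calc g * h = g * h * g⁻¹ * g := by group
      _ = h * g := by rw [h5]
  have hcard : Nat.card G = Nat.card (Perm (Fin 6)) := by
    have h1 : Nat.card ↥G1 * G1.index = Nat.card G := G1.card_mul_index
    have h2 : Nat.card ↥G1 = Nat.card (alternatingGroup (Fin 6)) := Nat.card_congr ψ.toEquiv
    have h3 : 2 * Nat.card (alternatingGroup (Fin 6)) = Nat.card (Perm (Fin 6)) := by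
      rw [Nat.card_eq_fintype_card, Nat.card_eq_fintype_card]
      exact two_mul_card_alternatingGroup
    rw [← h1, hidx, h2, ← h3, mul_comm]
  have hφbij : Function.Bijective φ := by
    haveI : Fintype G := Fintype.ofFinite G
    rw [Fintype.bijective_iff_injective_and_card]
    refine ⟨hφinj, ?_⟩
    rw [← Nat.card_eq_fintype_card, ← Nat.card_eq_fintype_card]
    exact hcard
  exact ⟨MulEquiv.ofBijective φ hφbij⟩

end Cfsg.Agent.S6U
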