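-- helper9: S3333 / S6U piece F2: glue from the model `N ≃* M72` to `h9_iso_perm_six`.
import Mathlib
import Cfsg.Agent.H72.H9_P3g
import Cfsg.Agent.Helper4.AutAltB
import Cfsg.Agent.S6U.H9_SymSix

set_option autoImplicit false
set_option linter.style.haveILetI false

namespace Cfsg.Agent.S6U

open Cfsg.Agent.Helper6.H72 DihedralGroup Equiv

/-- In the model, conjugation of an element of the kernel by any element agrees with conjugation
by a pure rotation. -/
theorem h9_rot_conj : ∀ m u : M72, u.right = 1 →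
    ∃ k : ZMod 4, m * u * m⁻¹ = (⟨1, r k⟩ : M72) * u * (⟨1, r k⟩ : M72)⁻¹ := by
  decide +kernel

theorem h9_sr_ne_r : ¬ ∃ k : ZMod 4, (sr 0 : DihedralGroup 4) = r k := by decide

/-- the centre of `A6` is trivial -/
theorem h9_center_alt_six (z : alternatingGroup (Fin 6))
    (hz : ∀ c : alternatingGroup (Fin 6), z * c = c * z) : z = 1 := by
  have hinj := Cfsg.Agent.Helper4.AutAlt.injective_conjNormal (Ω := Fin 6) (by simp)
  have h1 : (MulAut.conjNormal (z : Perm (Fin 6)) : MulAut (alternatingGroup (Fin 6))) = 1 := by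
    apply MulEquiv.ext
    intro c
    apply Subtype.ext
    rw [MulAut.conjNormal_apply]
    have := congrArg Subtype.val (hz c)
    simp only [Subgroup.coe_mul] at this
    show (z : Perm (Fin 6)) * c * (z : Perm (Fin 6))⁻¹ = c
    rw [this, mul_inv_cancel_right]
  have h2 : (z : Perm (Fin 6)) = 1 := by
    apply hinj
    rw [h1, map_one]
  exact Subtype.ext h2

/-- F2 (helper9): glue from the model -/
theorem h9_glue_F2 {G : Type*} [Group G] [Finite G] (P : Sylow 3 G)
    (hC : Subgroup.centralizer ((P : Subgroup G) : Set G) = (P : Subgroup G))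
    (e : ↥(Subgroup.normalizer ((P : Subgroup G) : Set G)) ≃* M72)
    (he : ∀ n : ↥(Subgroup.normalizer ((P : Subgroup G) : Set G)),
        (n : G) ∈ (P : Subgroup G) ↔ (e n).right = 1)
    (X : Subgroup G) [X.Normal] (hPX : (P : Subgroup G) ≤ X) (hidx : X.index = 2)
    (ψ : ↥X ≃* alternatingGroup (Fin 6))
    (hX : ∀ n : ↥(Subgroup.normalizer ((P : Subgroup G) : Set G)),
      (n : G) ∈ X ↔ ∃ k : ZMod 4, (e n).right = r k) :
    Nonempty (G ≃* Equiv.Perm (Fin 6)) := by
  classical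
  haveI : Fact (Nat.Prime 3) := ⟨Nat.prime_three⟩
  -- Step 2: an element `a ∈ P` mapped to a three-cycle
  have hex : ∃ a : G, a ∈ (P : Subgroup G) ∧ ∃ haX : a ∈ X,
      ((ψ ⟨a, haX⟩ : alternatingGroup (Fin 6)) : Perm (Fin 6)).IsThreeCycle := by
    have hc0 : (swap (0 : Fin 6) 1 * swap (0 : Fin 6) 2).IsThreeCycle :=
      Perm.isThreeCycle_swap_mul_swap_same (by decide) (by decide) (by decide)
    set c0 : alternatingGroup (Fin 6) := ⟨_, hc0.mem_alternatingGroup⟩ with hc0def
    set c : ↥X := ψ.symm c0 with hcdef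
    have hoc : orderOf c = 3 := by
      rw [hcdef, MulEquiv.orderOf_eq, ← Subgroup.orderOf_coe]
      exact hc0.orderOf
    have hpg : IsPGroup 3 (Subgroup.zpowers c) := by
      apply IsPGroup.of_card (n := 1)
      rw [Nat.card_zpowers, hoc, pow_one]
    obtain ⟨Q', hQ'⟩ := hpg.exists_le_sylow
    obtain ⟨x, hx⟩ := MulAction.exists_smul_eq ↥X Q' (P.subtype hPX)
    have hcQ' : c ∈ Q' := hQ' (Subgroup.mem_zpowers c)
    have hmem : x * c * x⁻¹ ∈ ((P.subtype hPX : Sylow 3 ↥X) : Subgroup ↥X) := by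
      rw [← hx, Sylow.coe_subgroup_smul]
      have : x * c * x⁻¹ = MulAut.conj x • c := by
        rw [MulAut.smul_def, MulAut.conj_apply]
      rw [this]
      exact Subgroup.smul_mem_pointwise_smul c (MulAut.conj x) (Q' : Subgroup ↥X) hcQ'
    have hmem2 : ((x * c * x⁻¹ : ↥X) : G) ∈ (P : Subgroup G) := by
      have h2 := hmem
      rw [Sylow.coe_subtype, Subgroup.mem_subgroupOf] at h2
      exact h2
    refine ⟨((x * c * x⁻¹ : ↥X) : G), hmem2, (x * c * x⁻¹ : ↥X).2, ?_⟩
    have h3 : ψ (x * c * x⁻¹) = ψ x * c0 * (ψ x)⁻¹ := by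
      rw [map_mul, map_mul, map_inv, hcdef, MulEquiv.apply_symm_apply]
    have h4 : (⟨((x * c * x⁻¹ : ↥X) : G), (x * c * x⁻¹ : ↥X).2⟩ : ↥X) = x * c * x⁻¹ := rfl
    rw [h4, h3]
    have := h9_isThreeCycle_conj (τ := ((ψ x : alternatingGroup (Fin 6)) : Perm (Fin 6))) hc0
    simpa [hc0def] using this
  obtain ⟨a, haP, haX, ha3⟩ := hex
  -- Step 1: faithful action on `X`
  have hcent : ∀ g : G, (∀ h ∈ X, g * h = h * g) → g = 1 := by
    intro g hg
    have hgP : g ∈ (P : Subgroup G) := by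
      rw [← hC, Subgroup.mem_centralizer_iff]
      intro s hs
      exact (hg s (hPX hs)).symm
    have hgX : g ∈ X := hPX hgP
    have hz : ψ ⟨g, hgX⟩ = 1 := by
      apply h9_center_alt_six
      intro c
      have h1 : (⟨g, hgX⟩ : ↥X) * ψ.symm c = ψ.symm c * ⟨g, hgX⟩ := by
        apply Subtype.ext
        simp only [Subgroup.coe_mul]
        exact hg _ (ψ.symm c).2
      have h2 := congrArg ψ h1
      rw [map_mul, map_mul, MulEquiv.apply_symm_apply] at h2
      exact h2
    have h3 : (⟨g, hgX⟩ : ↥X) = 1 := (MulEquiv.map_eq_one_iff ψ).mp hz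
    exact congrArg Subtype.val h3
  -- Step 3: every element preserves the `X`-class of `a`
  have hPN : (P : Subgroup G) ≤ Subgroup.normalizer ((P : Subgroup G) : Set G) :=
    Subgroup.le_normalizer
  have hcl : ∀ g : G, ∃ h ∈ X, g * a * g⁻¹ = h * a * h⁻¹ := by
    intro g
    by_cases hgX : g ∈ X
    · exact ⟨g, hgX, rfl⟩
    · set n0 : ↥(Subgroup.normalizer ((P : Subgroup G) : Set G)) := e.symm ⟨1, sr 0⟩ with hn0
      have hn0X : (n0 : G) ∉ X := by
        rw [hX, hn0, MulEquiv.apply_symm_apply]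
        exact h9_sr_ne_r
      have hxX : g * (n0 : G)⁻¹ ∈ X := by
        rw [Subgroup.mul_mem_iff_of_index_two hidx]
        constructor
        · intro h; exact absurd h hgX
        · intro h; exact absurd (by simpa using X.inv_mem h) hn0X
      set aN : ↥(Subgroup.normalizer ((P : Subgroup G) : Set G)) := ⟨a, hPN haP⟩ with haN
      have hu : (e aN).right = 1 := (he aN).mp haP
      obtain ⟨k, hk⟩ := h9_rot_conj (e n0) (e aN) hu
      set m0 : ↥(Subgroup.normalizer ((P : Subgroup G) : Set G)) := e.symm ⟨1, r k⟩ with hm0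
      have hm0X : (m0 : G) ∈ X := by
        rw [hX, hm0, MulEquiv.apply_symm_apply]
        exact ⟨k, rfl⟩
      have heq : n0 * aN * n0⁻¹ = m0 * aN * m0⁻¹ := by
        apply e.injective
        rw [map_mul, map_mul, map_inv, map_mul, map_mul, map_inv, hk, hm0,
          MulEquiv.apply_symm_apply]
      have heqG : (n0 : G) * a * (n0 : G)⁻¹ = (m0 : G) * a * (m0 : G)⁻¹ := by
        have := congrArg Subtype.val heq
        simpa [haN] using this
      refine ⟨g * (n0 : G)⁻¹ * (m0 : G), X.mul_mem hxX hm0X, ?_⟩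
      calc g * a * g⁻¹ = (g * (n0 : G)⁻¹) * ((n0 : G) * a * (n0 : G)⁻¹) * (g * (n0 : G)⁻¹)⁻¹ := by
            group
        _ = (g * (n0 : G)⁻¹) * ((m0 : G) * a * (m0 : G)⁻¹) * (g * (n0 : G)⁻¹)⁻¹ := by rw [heqG]
        _ = _ := by group
  exact h9_iso_perm_six X hidx ψ hcent a haX ha3 hcl

end Cfsg.Agent.S6U
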