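import Mathlib
import Cfsg.Agent.H72.H9_P3g
import Cfsg.Agent.S6U.H7_Model
import Cfsg.Agent.S6U.H3_Descent
import Cfsg.Agent.S6U.H3_Klein
import Cfsg.Agent.S6U.H1_Cyclic
import Cfsg.Agent.S6U.H9_Glue
import Cfsg.Agent.S3716
import Cfsg.Agent.S3805

/-!
# S3333 / S6U: the glue (helper7)

From the local structure (`S` of exponent 3, the Sylow 2-subgroups of `N` dihedral) to the conclusion
of S3333, with S3341 as the black box `A6Box`.
-/

set_option autoImplicit false
set_option linter.style.haveILetI false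

namespace Cfsg.Agent.S6U

open Cfsg.Agent.Helper6.H72 DihedralGroup

universe u

/-- irreducibility of `N` on `P`, in helper3's form -/
theorem h7_irr {G : Type*} [Group G] (P : Subgroup G)
    (e : ↥(Subgroup.normalizer (P : Set G)) ≃* M72)
    (he : ∀ n : ↥(Subgroup.normalizer (P : Set G)), (n : G) ∈ P ↔ (e n).right = 1)
    (T : Subgroup G) (hTP : T ≤ P) (hT3 : Nat.card T = 3) :
    ¬ (Subgroup.normalizer (P : Set G) ≤ Subgroup.normalizer (T : Set G)) := by
  intro hNT
  have hTne : T ≠ ⊥ := by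
    intro h
    rw [h, Subgroup.card_bot] at hT3
    omega
  obtain ⟨x, hxT, hx1⟩ := T.bot_or_exists_ne_one.resolve_left hTne
  have hxo : orderOf x = 3 := by
    have hdvd : orderOf x ∣ 3 := by
      rw [← hT3]; exact Subgroup.orderOf_dvd_natCard T hxT
    rcases (Nat.dvd_prime Nat.prime_three).mp hdvd with h | h
    · exact absurd (orderOf_eq_one_iff.mp h) hx1
    · exact h
  have hx3 : x ^ 3 = 1 := by rw [← hxo]; exact pow_orderOf_eq_one x
  have hTz : Subgroup.zpowers x = T := by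
    haveI : Finite T := Nat.finite_of_card_ne_zero (by rw [hT3]; norm_num)
    apply Subgroup.eq_of_le_of_card_ge (Subgroup.zpowers_le.mpr hxT)
    rw [Nat.card_zpowers, hxo, hT3]
  let n0 : ↥(Subgroup.normalizer (P : Set G)) := e.symm (mk 0 0 (r 1))
  have hn0 : (e n0).right = r 1 := by
    show (e (e.symm (mk 0 0 (r 1)))).right = r 1
    rw [MulEquiv.apply_symm_apply]; rfl
  have hconj : (n0 : G) * x * (n0 : G)⁻¹ ∈ T := by
    have := hNT n0.2
    rw [Subgroup.mem_normalizer_iff] at this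
    exact (this x).mp hxT
  let xN : ↥(Subgroup.normalizer (P : Set G)) := ⟨x, Subgroup.le_normalizer (hTP hxT)⟩
  have hxr : (e xN).right = 1 := (he xN).mp (hTP hxT)
  set v := (e xN).left.toAdd with hv
  have hv0 : v ≠ 0 := by
    intro h
    have h1 : e xN = 1 := (h7_mk_one_iff _ hxr).mpr h
    have h2 : xN = 1 := (MulEquiv.map_eq_one_iff e).mp h1
    exact hx1 (congrArg Subtype.val h2)
  have h1 := h7_conj (e n0) (e xN) hxr
  rw [hn0] at h1
  obtain ⟨hne0, hne1, hne2⟩ := h7_no_eigen v hv0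
  -- the three cases
  rw [← hTz, Subgroup.mem_zpowers_iff] at hconj
  obtain ⟨k, hk⟩ := hconj
  have hk' : x ^ (k % 3) = (n0 : G) * x * (n0 : G)⁻¹ := by
    have := zpow_mod_orderOf x k
    rw [hxo] at this
    rw [← hk]; exact_mod_cast this
  have hcases : k % 3 = 0 ∨ k % 3 = 1 ∨ k % 3 = 2 := by omega
  have hcoe : ((n0 * xN * n0⁻¹ : ↥(Subgroup.normalizer (P : Set G))) : G) =
      (n0 : G) * x * (n0 : G)⁻¹ := by
    simp [xN]
  rcases hcases with h | h | h
  · rw [h, zpow_zero] at hk'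
    have h2 : n0 * xN * n0⁻¹ = 1 := Subtype.ext (by rw [hcoe, ← hk']; rfl)
    have h3 : e n0 * e xN * (e n0)⁻¹ = 1 := by
      rw [← map_inv, ← map_mul, ← map_mul, h2, map_one]
    rw [h3] at h1
    exact hne0 h1.2.symm
  · rw [h, zpow_one] at hk'
    have h2 : n0 * xN * n0⁻¹ = xN := Subtype.ext (by rw [hcoe, ← hk'])
    have h3 : e n0 * e xN * (e n0)⁻¹ = e xN := by
      rw [← map_inv, ← map_mul, ← map_mul, h2]
    rw [h3] at h1
    exact hne1 h1.2.symm
  · rw [h] at hk'
    have hx2 : x ^ (2 : ℤ) = x⁻¹ := by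
      have : x ^ (2 : ℤ) * x = 1 := by
        have h3 : x ^ (2 : ℤ) * x = x ^ 3 := by
          rw [zpow_ofNat]; exact (pow_succ x 2).symm
        rw [h3, hx3]
      exact eq_inv_of_mul_eq_one_left this
    rw [hx2] at hk'
    have h2 : n0 * xN * n0⁻¹ = xN⁻¹ := Subtype.ext (by rw [hcoe, ← hk']; rfl)
    have h3 : e n0 * e xN * (e n0)⁻¹ = (e xN)⁻¹ := by
      rw [← map_inv, ← map_mul, ← map_mul, h2, map_inv]
    rw [h3] at h1
    have h4 := (h7_inv_left (e xN) hxr).2
    rw [h4] at h1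
    exact hne2 h1.2.symm

/-- **The glue**: S3333 from the local structure, with S3341 as a black box. -/
theorem h7_main {G : Type u} [Group G] [Finite G] (hbox : A6Box.{u})
    (P : Sylow 3 G) (hcard : Nat.card (P : Subgroup G) = 9)
    (hexp : ∀ a ∈ (P : Subgroup G), a ^ 3 = 1)
    (hC : Subgroup.centralizer ((P : Subgroup G) : Set G) = (P : Subgroup G))
    (hcent : ∀ x ∈ (P : Subgroup G), x ≠ 1 →
      Subgroup.centralizer ({x} : Set G) ≤ Subgroup.normalizer ((P : Subgroup G) : Set G))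
    (hS : ∀ T : Sylow 2 ↥(Subgroup.normalizer ((P : Subgroup G) : Set G)),
      Nonempty (↥(T : Subgroup ↥(Subgroup.normalizer ((P : Subgroup G) : Set G))) ≃*
        DihedralGroup 4)) :
    (P : Subgroup G).Normal ∨ Nonempty (G ≃* Equiv.Perm (Fin 6)) := by
  classical
  haveI : Fact (Nat.Prime 3) := ⟨Nat.prime_three⟩
  set N := Subgroup.normalizer ((P : Subgroup G) : Set G) with hN
  obtain ⟨e, he, -, hN72⟩ := h9_exists_iso_M72 P hcard hexp hC N rfl hcent hS
  have hns : ¬ IsSimpleGroup G := Cfsg.Agent.S3716.result P hcard hexp hC N rfl hcent hS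
  have hirr : ∀ T : Subgroup G, T ≤ (P : Subgroup G) → Nat.card T = 3 →
      ¬ (N ≤ Subgroup.normalizer (T : Set G)) :=
    fun T hTP hT3 => h7_irr (P : Subgroup G) e he T hTP hT3
  obtain ⟨G1, hG1n, hidx, hPG1, h36⟩ :=
    descent P (P : Subgroup G) rfl hcard hexp hC hcent hirr hN72 hns
  haveI := hG1n
  let φ : ↥N →* D4 := SemidirectProduct.rightHom.comp e.toMonoidHom
  have hφ : ∀ n : ↥N, φ n = (e n).right := fun n => rfl
  have hker : ∀ n : ↥N, φ n = 1 ↔ (n : G) ∈ (P : Subgroup G) := fun n => (he n).symm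
  let D : Subgroup D4 := (G1.subgroupOf N).map φ
  have hD : ∀ n : ↥N, (n : G) ∈ G1 ↔ φ n ∈ D := by
    intro n
    constructor
    · intro h
      exact Subgroup.mem_map.mpr ⟨n, Subgroup.mem_subgroupOf.mpr h, rfl⟩
    · intro h
      obtain ⟨y, hy, hyn⟩ := Subgroup.mem_map.mp h
      have h0 : φ (n * y⁻¹) = 1 := by rw [map_mul, map_inv, hyn, mul_inv_cancel]
      have h1 : ((n * y⁻¹ : ↥N) : G) ∈ (P : Subgroup G) := (hker _).mp h0
      have h2 : ((n * y⁻¹ : ↥N) : G) ∈ G1 := hPG1 h1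
      have hy' : (y : G) ∈ G1 := Subgroup.mem_subgroupOf.mp hy
      have h3 : (n : G) = ((n * y⁻¹ : ↥N) : G) * (y : G) := by simp
      rw [h3]; exact G1.mul_mem h2 hy'
  by_cases hall : ∀ d ∈ D, d * d = 1
  · -- the Klein case
    left
    have hsq : ∀ n ∈ N ⊓ G1, n ^ 2 ∈ (P : Subgroup G) := by
      intro n hn
      obtain ⟨hnN, hnG1⟩ := Subgroup.mem_inf.mp hn
      have h1 : φ ⟨n, hnN⟩ ∈ D := (hD ⟨n, hnN⟩).mp hnG1
      have h2 := hall _ h1
      have h3 : φ (⟨n, hnN⟩ * ⟨n, hnN⟩) = 1 := by rw [map_mul]; exact h2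
      have h4 := (hker _).mp h3
      rw [sq]; exact h4
    exact klein_case
      (fun _ _ _ T hT hcard hC _ hK hloc => Cfsg.Agent.S3805.result T hT hcard hC hK hloc)
      P (P : Subgroup G) rfl hcard hexp hC hcent G1 hPG1 h36 hsq
  · -- the cyclic case
    push Not at hall
    obtain ⟨d, hdD, hdd⟩ := hall
    have hr1 : r 1 ∈ D := by
      rcases h7_sq_ne_one d hdd with h | h
      · rw [← h]; exact hdD
      · rw [← h7_r_three_inv, ← h]; exact D.inv_mem hdD
    have hrk : ∀ k : ZMod 4, r k ∈ D := fun k => by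
      rw [h7_r_pow]; exact D.pow_mem hr1 _
    have hsr : ∀ k : ZMod 4, sr k ∉ D := by
      intro i hi
      have htop : ∀ d : D4, d ∈ D := by
        intro d
        rcases h7_D4_cases d with ⟨k, rfl⟩ | ⟨k, rfl⟩
        · exact hrk k
        · rw [h7_sr_eq i k]; exact D.mul_mem hi (D.pow_mem hr1 _)
      have hNG1 : N ≤ G1 := fun n hn => (hD ⟨n, hn⟩).mpr (htop _)
      have h1 : N ⊓ G1 = N := inf_eq_left.mpr hNG1
      rw [h1, hN72] at h36
      omega
    have hX : ∀ n : ↥N, (n : G) ∈ G1 ↔ ∃ k : ZMod 4, (e n).right = r k := by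
      intro n
      rw [hD]
      constructor
      · intro h
        rcases h7_D4_cases (φ n) with ⟨k, hk⟩ | ⟨k, hk⟩
        · exact ⟨k, hk⟩
        · rw [hk] at h; exact absurd h (hsr k)
      · rintro ⟨k, hk⟩
        rw [hφ, hk]; exact hrk k
    -- the data in `↥G1`
    set Q : Sylow 3 ↥G1 := P.subtype hPG1 with hQ
    have hQcoe : (Q : Subgroup ↥G1) = (P : Subgroup G).subgroupOf G1 := Sylow.coe_subtype P hPG1
    have hQmem : ∀ y : ↥G1, y ∈ (Q : Subgroup ↥G1) ↔ (y : G) ∈ (P : Subgroup G) := by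
      intro y; rw [hQcoe, Subgroup.mem_subgroupOf]
    have hcardQ : Nat.card ↥(Q : Subgroup ↥G1) = 9 := by
      rw [hQcoe, h3_card_subgroupOf hPG1, hcard]
    have hexpQ : ∀ a ∈ (Q : Subgroup ↥G1), a ^ 3 = 1 := by
      intro a ha
      apply Subtype.ext
      have := hexp (a : G) ((hQmem a).mp ha)
      simpa using this
    have hcommP : ∀ a ∈ (P : Subgroup G), ∀ b ∈ (P : Subgroup G), a * b = b * a := by
      intro a ha b hb
      have ha' : a ∈ Subgroup.centralizer ((P : Subgroup G) : Set G) := by rw [hC]; exact ha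
      exact ((Subgroup.mem_centralizer_iff.mp ha') b hb).symm
    have hcentQ : ∀ s ∈ (Q : Subgroup ↥G1), s ≠ 1 →
        Subgroup.centralizer ({s} : Set ↥G1) = (Q : Subgroup ↥G1) := by
      intro s hs hs1
      have hsP : (s : G) ∈ (P : Subgroup G) := (hQmem s).mp hs
      have hs1' : (s : G) ≠ 1 := fun h => hs1 (Subtype.ext h)
      ext x
      rw [h3_mem_centralizer_singleton s x, hQmem]
      constructor
      · intro hx
        have hxN : (x : G) ∈ N := hcent (s : G) hsP hs1' hx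
        let xN : ↥N := ⟨(x : G), hxN⟩
        let sN : ↥N := ⟨(s : G), Subgroup.le_normalizer hsP⟩
        obtain ⟨k, hk⟩ := (hX xN).mp x.2
        have hsr1 : (e sN).right = 1 := (he sN).mp hsP
        have hcomm : xN * sN = sN * xN :=
          Subtype.ext (Subgroup.mem_centralizer_singleton_iff.mp hx)
        have hcomm' : e xN * e sN = e sN * e xN := by rw [← map_mul, ← map_mul, hcomm]
        have hact := h7_commute (e xN) (e sN) hsr1 hcomm'
        rw [hk] at hact
        have hv0 : (e sN).left.toAdd ≠ 0 := by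
          intro h
          have h1 : e sN = 1 := (h7_mk_one_iff _ hsr1).mpr h
          have h2 : sN = 1 := (MulEquiv.map_eq_one_iff e).mp h1
          exact hs1' (congrArg Subtype.val h2)
        have hk0 := h7_rot_free k _ hv0 hact
        rw [hk0] at hk
        exact (he xN).mpr (by rw [hk]; rfl)
      · intro hx
        exact Subgroup.mem_centralizer_singleton_iff.mpr (hcommP _ hx _ hsP)
    have hNQ : Nat.card ↥(Subgroup.normalizer ((Q : Subgroup ↥G1) : Set ↥G1)) ∣ 36 := by
      rw [hQcoe, h3_normalizer_subgroupOf hPG1, ← Subgroup.inf_subgroupOf_right,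
        h3_card_subgroupOf inf_le_right, h36]
    rcases cyclic_case hbox Q hcardQ hexpQ hcentQ hNQ with hn | hψ
    · left
      rw [hQcoe] at hn
      exact h3_normal_of_normal_subgroupOf P hPG1 hn
    · right
      obtain ⟨ψ⟩ := hψ
      exact h9_glue_F2 P hC e he G1 hPG1 hidx ψ hX

end Cfsg.Agent.S6U
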