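import Mathlib
import Cfsg.Agent.S6U.H1_Cyclic
import Cfsg.Agent.S6U.H3_Klein
import Cfsg.Agent.S6U.H9_Glue
import Cfsg.Agent.S6U.H7_Model

/-!
# S3333 / S6U: after the descent (helper1)

`X ⊴ G` of index 2 containing the Sylow 3-subgroup `P`, with `|N(P) ∩ X| = 36` and
`N(P) ≃* M72`.  Either all squares of `N ∩ X` lie in `P` (Klein case, S3805 through `KleinBox`),
or `N ∩ X` is the preimage of the rotation subgroup (cyclic case: `cyclic_case` on `↥X`, then
helper9's `h9_glue_F2`).
-/

set_option autoImplicit false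

namespace Cfsg.Agent.S6U

open Cfsg.Agent.Helper6.H72 DihedralGroup

universe u

theorem h1_sq_one : ∀ d : D4, d ≠ r 1 → d ≠ r 3 → d * d = 1 := by decide

theorem h1_gen_D4 : ∀ (i : ZMod 4) (d : D4),
    ∃ a : Fin 4, ∃ b : Fin 2, d = (r 1 : D4) ^ (a : ℕ) * (sr i) ^ (b : ℕ) := by decide

theorem h1_r_three_pow : (r 3 : D4) ^ 3 = r 1 := by decide

theorem h1_r_zero : (r 0 : D4) = 1 := rfl

theorem h1_after_descent {G : Type u} [Group G] [Finite G]
    (hbox : A6Box.{u}) (hkbox : KleinBox.{u}) (P : Sylow 3 G)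
    (hcard : Nat.card ↥(P : Subgroup G) = 9) (hexp : ∀ a ∈ (P : Subgroup G), a ^ 3 = 1)
    (hC : Subgroup.centralizer ((P : Subgroup G) : Set G) = (P : Subgroup G))
    (hcent : ∀ x ∈ (P : Subgroup G), x ≠ 1 →
      Subgroup.centralizer ({x} : Set G) ≤ Subgroup.normalizer ((P : Subgroup G) : Set G))
    (e : ↥(Subgroup.normalizer ((P : Subgroup G) : Set G)) ≃* M72)
    (he : ∀ n : ↥(Subgroup.normalizer ((P : Subgroup G) : Set G)),
      (n : G) ∈ (P : Subgroup G) ↔ (e n).right = 1)
    (X : Subgroup G) [X.Normal] (hPX : (P : Subgroup G) ≤ X) (hidx : X.index = 2)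
    (h36 : Nat.card ↥(Subgroup.normalizer ((P : Subgroup G) : Set G) ⊓ X : Subgroup G) = 36) :
    (P : Subgroup G).Normal ∨ Nonempty (G ≃* Equiv.Perm (Fin 6)) := by
  have : Fact (Nat.Prime 3) := ⟨by norm_num⟩
  -- the homomorphism to `D4`
  let ρ : ↥(Subgroup.normalizer ((P : Subgroup G) : Set G)) →* D4 :=
    (SemidirectProduct.rightHom).comp e.toMonoidHom
  have hρ : ∀ n, ρ n = (e n).right := fun n => rfl
  have hker : ∀ n : ↥(Subgroup.normalizer ((P : Subgroup G) : Set G)),
      ρ n = 1 → (n : G) ∈ X := fun n h => hPX ((he n).mpr (by rw [← hρ]; exact h))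
  by_cases hA : ∃ n : ↥(Subgroup.normalizer ((P : Subgroup G) : Set G)),
      (n : G) ∈ X ∧ ((e n).right = r 1 ∨ (e n).right = r 3)
  · -- the cyclic case
    obtain ⟨n0, hn0X, hn0⟩ : ∃ n : ↥(Subgroup.normalizer ((P : Subgroup G) : Set G)),
        (n : G) ∈ X ∧ ρ n = r 1 := by
      obtain ⟨n, hnX, h | h⟩ := hA
      · exact ⟨n, hnX, h⟩
      · refine ⟨n ^ 3, ?_, ?_⟩
        · rw [Subgroup.coe_pow]; exact X.pow_mem hnX 3
        · rw [map_pow, hρ, h]; exact h1_r_three_pow
    -- membership in `X` is detected by the rotation subgroup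
    have hX : ∀ n : ↥(Subgroup.normalizer ((P : Subgroup G) : Set G)),
        (n : G) ∈ X ↔ ∃ k : ZMod 4, (e n).right = r k := by
      intro n
      constructor
      · intro hnX
        rcases h7_D4_cases (e n).right with h | ⟨i, hi⟩
        · exact h
        · exfalso
          -- then `N ≤ X`
          have hall : ∀ n' : ↥(Subgroup.normalizer ((P : Subgroup G) : Set G)), (n' : G) ∈ X := by
            intro n'
            obtain ⟨a, b, hab⟩ := h1_gen_D4 i (ρ n')
            have h1 : ρ (n' * (n0 ^ (a : ℕ) * n ^ (b : ℕ))⁻¹) = 1 := by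
              rw [map_mul, map_inv, map_mul, map_pow, map_pow, hn0, hρ n, hi, ← hab,
                mul_inv_cancel]
            have h2 := hker _ h1
            have h3 : ((n0 ^ (a : ℕ) * n ^ (b : ℕ) :
                ↥(Subgroup.normalizer ((P : Subgroup G) : Set G))) : G) ∈ X := by
              rw [Subgroup.coe_mul, Subgroup.coe_pow, Subgroup.coe_pow]
              exact X.mul_mem (X.pow_mem hn0X _) (X.pow_mem hnX _)
            have h4 := X.mul_mem h2 h3
            rw [← Subgroup.coe_mul, inv_mul_cancel_right] at h4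
            exact h4
          have hle : Subgroup.normalizer ((P : Subgroup G) : Set G) ≤ X :=
            fun g hg => hall ⟨g, hg⟩
          rw [inf_of_le_left hle, Nat.card_congr e.toEquiv, card_M72] at h36
          omega
      · rintro ⟨k, hk⟩
        have h1 : ρ (n * (n0 ^ k.val)⁻¹) = 1 := by
          rw [map_mul, map_inv, map_pow, hn0, hρ n, hk, ← h7_r_pow, mul_inv_cancel]
        have h2 := hker _ h1
        have h3 : ((n0 ^ k.val : ↥(Subgroup.normalizer ((P : Subgroup G) : Set G))) : G) ∈ X := by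
          rw [Subgroup.coe_pow]; exact X.pow_mem hn0X _
        have h4 := X.mul_mem h2 h3
        rw [← Subgroup.coe_mul, inv_mul_cancel_right] at h4
        exact h4
    -- free action
    have hfree : ∀ s ∈ (P : Subgroup G), s ≠ 1 → ∀ x ∈ X, x * s = s * x →
        x ∈ (P : Subgroup G) := by
      intro s hs hs1 x hxX hxs
      have hxN : x ∈ Subgroup.normalizer ((P : Subgroup G) : Set G) :=
        hcent s hs hs1 (Subgroup.mem_centralizer_singleton_iff.mpr hxs)
      have hsN : s ∈ Subgroup.normalizer ((P : Subgroup G) : Set G) := Subgroup.le_normalizer hs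
      obtain ⟨k, hk⟩ := (hX ⟨x, hxN⟩).mp hxX
      have hst : (e ⟨s, hsN⟩).right = 1 := (he ⟨s, hsN⟩).mp hs
      have hc : e ⟨x, hxN⟩ * e ⟨s, hsN⟩ = e ⟨s, hsN⟩ * e ⟨x, hxN⟩ := by
        rw [← map_mul, ← map_mul]
        congr 1
        exact Subtype.ext hxs
      have hact := h7_commute _ _ hst hc
      rw [hk] at hact
      have hv : (e ⟨s, hsN⟩).left.toAdd ≠ 0 := by
        intro h0
        have h1 := (h7_mk_one_iff _ hst).mpr h0
        have h2 : (⟨s, hsN⟩ : ↥(Subgroup.normalizer ((P : Subgroup G) : Set G))) = 1 :=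
          e.injective (by rw [h1, map_one])
        exact hs1 (congrArg Subtype.val h2)
      have hk0 := h7_rot_free k _ hv hact
      rw [hk0] at hk
      exact (he ⟨x, hxN⟩).mpr hk
    -- the hypotheses of `cyclic_case` in `↥X`
    have hcomm : IsMulCommutative (P : Subgroup G) := h3_comm _ hC
    have hcentQ : ∀ s ∈ ((P.subtype hPX : Sylow 3 ↥X) : Subgroup ↥X), s ≠ 1 →
        Subgroup.centralizer ({s} : Set ↥X) = ((P.subtype hPX : Sylow 3 ↥X) : Subgroup ↥X) := by
      intro s hs hs1
      rw [h1_sub_coe] at hs ⊢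
      rw [Subgroup.mem_subgroupOf] at hs
      have hs1' : (s : G) ≠ 1 := fun h => hs1 (Subtype.ext h)
      ext x
      rw [Subgroup.mem_centralizer_singleton_iff, Subgroup.mem_subgroupOf]
      constructor
      · intro h
        have h' : (x : G) * (s : G) = (s : G) * (x : G) := by
          have := congrArg Subtype.val h
          simpa using this
        exact hfree _ hs hs1' _ x.2 h'
      · intro h
        apply Subtype.ext
        have := hcomm.is_comm.comm (⟨(x : G), h⟩ : ↥(P : Subgroup G)) ⟨(s : G), hs⟩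
        have := congrArg Subtype.val this
        simpa using this
    have hNQ : Nat.card ↥(Subgroup.normalizer
        (((P.subtype hPX : Sylow 3 ↥X) : Subgroup ↥X) : Set ↥X)) ∣ 36 := by
      rw [h1_sub_normalizer, ← Subgroup.inf_subgroupOf_right,
        Nat.card_congr (Subgroup.subgroupOfEquivOfLe
          (inf_le_right : Subgroup.normalizer ((P : Subgroup G) : Set G) ⊓ X ≤ X)).toEquiv, h36]
    rcases cyclic_case hbox (P.subtype hPX) (h1_sub_card P X hPX hcard) (h1_sub_exp P X hPX hexp)
      hcentQ hNQ with hn | hψ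
    · left
      rw [h1_sub_coe] at hn
      exact h3_normal_of_normal_subgroupOf P hPX hn
    · right
      obtain ⟨ψ⟩ := hψ
      exact h9_glue_F2 P hC e he X hPX hidx ψ hX
  · -- the Klein case
    left
    push Not at hA
    have hsq : ∀ n ∈ Subgroup.normalizer ((P : Subgroup G) : Set G) ⊓ X,
        n ^ 2 ∈ (P : Subgroup G) := by
      intro n hn
      have h1 := hA ⟨n, hn.1⟩ hn.2
      have h2 := h1_sq_one _ h1.1 h1.2
      have h3 : (e (⟨n, hn.1⟩ * ⟨n, hn.1⟩)).right = 1 := by
        rw [map_mul, SemidirectProduct.mul_right, h2]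
      have h4 := (he _).mpr h3
      rw [pow_two]
      exact h4
    exact klein_case hkbox P (P : Subgroup G) rfl hcard hexp hC hcent X hPX h36 hsq

end Cfsg.Agent.S6U
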