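import Mathlib
import Cfsg.Agent.S6U.H3_Normal

/-!
# S3333 / S6U, piece B': normal subgroups have order divisible by 3 (helper3)

Same setting as `normal_sub`, but WITHOUT the irreducibility hypothesis: every nontrivial normal
subgroup `K` of `G` has order divisible by 3 (so meets `S` nontrivially).
-/

set_option autoImplicit false

namespace Cfsg.Agent.S6U

open Subgroup

/-- A nontrivial normal subgroup has order divisible by `3` (coprime generation). -/
theorem normal_three_dvd {G : Type*} [Group G] [Finite G]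
    (S : Subgroup G) (hcard : Nat.card S = 9)
    (hexp : ∀ a ∈ S, a ^ 3 = 1)
    (hC : Subgroup.centralizer (S : Set G) = S)
    (hcent : ∀ x ∈ S, x ≠ 1 →
      Subgroup.centralizer ({x} : Set G) ≤ Subgroup.normalizer (S : Set G))
    (K : Subgroup G) [K.Normal] (hK : K ≠ ⊥) : 3 ∣ Nat.card K := by
  have : Fact (Nat.Prime 3) := ⟨by norm_num⟩
  have hcommS := h3_comm S hC
  have hnc := h3_not_cyclic S hcard hexp
  by_contra h3
  have hcop : (Nat.card S).Coprime (Nat.card K) := by
    rw [hcard]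
    have : Nat.Coprime 3 (Nat.card K) := (Nat.Prime.coprime_iff_not_dvd (by norm_num)).mpr h3
    have h9 : (9 : ℕ) = 3 ^ 2 := by norm_num
    rw [h9]; exact Nat.Coprime.pow_left 2 this
  have hSK : S ≤ Subgroup.normalizer (K : Set G) := by
    rw [Subgroup.normalizer_eq_top]; exact le_top
  have hgen := Cfsg.Agent.S0058.result S K hnc hSK hcop
  have hinf : K ⊓ S = ⊥ := by
    rw [Subgroup.eq_bot_iff_card]
    have h1 : Nat.card (K ⊓ S : Subgroup G) ∣ Nat.card K :=
      Subgroup.card_dvd_of_le inf_le_left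
    have h2 : Nat.card (K ⊓ S : Subgroup G) ∣ Nat.card S :=
      Subgroup.card_dvd_of_le inf_le_right
    have := Nat.dvd_gcd h2 h1
    rw [hcop] at this
    exact Nat.eq_one_of_dvd_one this
  have hKN : K ⊓ Subgroup.normalizer (S : Set G) ≤ ⊥ := by
    intro k hk
    have hkS : k ∈ Subgroup.centralizer (S : Set G) := by
      rw [Subgroup.mem_centralizer_iff]
      intro s hs
      have hc1 : k * s * k⁻¹ * s⁻¹ ∈ S := by
        have := (Subgroup.mem_normalizer_iff.mp hk.2 s).mp hs
        exact S.mul_mem this (S.inv_mem hs)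
      have hc2 : k * s * k⁻¹ * s⁻¹ ∈ K := by
        have h1 : s * k⁻¹ * s⁻¹ ∈ K :=
          Subgroup.Normal.conj_mem inferInstance _ (K.inv_mem hk.1) s
        have h2 : k * s * k⁻¹ * s⁻¹ = k * (s * k⁻¹ * s⁻¹) := by group
        rw [h2]; exact K.mul_mem hk.1 h1
      have : k * s * k⁻¹ * s⁻¹ ∈ K ⊓ S := ⟨hc2, hc1⟩
      rw [hinf, Subgroup.mem_bot] at this
      have h3 : s * k = (k * s * k⁻¹ * s⁻¹)⁻¹ * (k * s) := by group
      rw [h3, this]; group
    rw [hC] at hkS
    rw [← hinf]; exact ⟨hk.1, hkS⟩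
  apply hK
  rw [← hgen, eq_bot_iff]
  refine iSup₂_le fun a ha => ?_
  refine le_trans ?_ hKN
  exact inf_le_inf_left K (hcent a ha.1 ha.2)

/-- Hence a nontrivial normal subgroup meets the Sylow 3-subgroup `S` nontrivially. -/
theorem normal_meet {G : Type*} [Group G] [Finite G]
    (P : Sylow 3 G) (S : Subgroup G) (hSP : S = P) (hcard : Nat.card S = 9)
    (hexp : ∀ a ∈ S, a ^ 3 = 1)
    (hC : Subgroup.centralizer (S : Set G) = S)
    (hcent : ∀ x ∈ S, x ≠ 1 →
      Subgroup.centralizer ({x} : Set G) ≤ Subgroup.normalizer (S : Set G))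
    (K : Subgroup G) [K.Normal] (hK : K ≠ ⊥) : K ⊓ S ≠ ⊥ := by
  rw [hSP]
  exact h3_meet P K (normal_three_dvd S hcard hexp hC hcent K hK)

end Cfsg.Agent.S6U
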