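import Mathlib
import Cfsg.Agent.S3805
import Cfsg.Agent.S6U.H3_Normal
import Cfsg.Agent.S6U.H3_Restrict
import Cfsg.Agent.S6U.H3_Klein

/-!
# S3333 / S6U: helper3's pieces in the exact shapes of `notes/S3333_stubs_helper7.lean.txt`

Thin wrappers: `h3_normal_contains` (piece B), `h3_klein_case` (piece DK, = stub `h8_klein_case`),
`h3_restrict` (piece D0, = stub `h7_restrict`).
-/

set_option autoImplicit false

namespace Cfsg.Agent.S6U

open Subgroup

/-- Piece B, stub shape. -/
theorem h3_normal_contains {G : Type*} [Group G] [Finite G]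
    (P : Sylow 3 G) (S : Subgroup G) (hSP : S = P) (hcard : Nat.card S = 9)
    (hexp : ∀ a ∈ S, a ^ 3 = 1)
    (hC : Subgroup.centralizer (S : Set G) = S)
    (hcent : ∀ x ∈ S, x ≠ 1 → Subgroup.centralizer ({x} : Set G) ≤ Subgroup.normalizer (S : Set G))
    (hirr : ∀ T : Subgroup G, T ≤ S → Nat.card T = 3 →
      ∃ n ∈ Subgroup.normalizer (S : Set G), T.map (MulAut.conj n).toMonoidHom ≠ T)
    (K : Subgroup G) (hK : K.Normal) (hK1 : K ≠ ⊥) : S ≤ K := by
  have := hK
  refine (normal_sub P S hSP hcard hexp hC hcent ?_ K hK1).1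
  intro T hTS hT3 hle
  obtain ⟨n, hn, hne⟩ := hirr T hTS hT3
  apply hne
  have hnT := hle hn
  ext x
  rw [Subgroup.mem_map]
  constructor
  · rintro ⟨y, hy, rfl⟩
    have := (Subgroup.mem_normalizer_iff.mp hnT y).mp hy
    simpa using this
  · intro hx
    refine ⟨n⁻¹ * x * n, ?_, ?_⟩
    · have := (Subgroup.mem_normalizer_iff.mp hnT (n⁻¹ * x * n)).mpr
        (by
          have h2 : n * (n⁻¹ * x * n) * n⁻¹ = x := by group
          rw [h2]; exact hx)
      exact this
    · simp only [MulEquiv.coe_toMonoidHom, MulAut.conj_apply]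
      group

/-- Piece DK, stub shape (`h8_klein_case` of the stubs file). -/
theorem h3_klein_case {G : Type*} [Group G] [Finite G]
    (P : Sylow 3 G) (hcard : Nat.card (P : Subgroup G) = 9)
    (hexp : ∀ a ∈ (P : Subgroup G), a ^ 3 = 1)
    (hC : Subgroup.centralizer ((P : Subgroup G) : Set G) = (P : Subgroup G))
    (hcent : ∀ x ∈ (P : Subgroup G), x ≠ 1 →
      Subgroup.centralizer ({x} : Set G) ≤ Subgroup.normalizer ((P : Subgroup G) : Set G))
    (X : Subgroup G) [X.Normal] (hPX : (P : Subgroup G) ≤ X)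
    (h36 : Nat.card ↥(Subgroup.normalizer ((P : Subgroup G) : Set G) ⊓ X) = 36)
    (hsq : ∀ n ∈ Subgroup.normalizer ((P : Subgroup G) : Set G) ⊓ X, n * n ∈ (P : Subgroup G)) :
    (P : Subgroup G).Normal :=
  klein_case
    (fun _ _ _ T hT hcard hC _ hK hloc => Cfsg.Agent.S3805.result T hT hcard hC hK hloc)
    P (P : Subgroup G) rfl hcard hexp hC hcent X hPX h36
    (fun n hn => by rw [pow_two]; exact hsq n hn)

/-- Piece D0, stub shape (`h7_restrict` of the stubs file). -/
theorem h3_restrict {G : Type*} [Group G] [Finite G]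
    (P : Sylow 3 G) (X : Subgroup G) (hPX : (P : Subgroup G) ≤ X) :
    ∃ Q : Sylow 3 ↥X, (Q : Subgroup ↥X) = (P : Subgroup G).subgroupOf X ∧
      Nat.card (Q : Subgroup ↥X) = Nat.card (P : Subgroup G) ∧
      (∀ x : ↥X, x ∈ Subgroup.centralizer ((Q : Subgroup ↥X) : Set ↥X) ↔
        (x : G) ∈ Subgroup.centralizer ((P : Subgroup G) : Set G)) ∧
      (∀ x : ↥X, x ∈ Subgroup.normalizer ((Q : Subgroup ↥X) : Set ↥X) ↔
        (x : G) ∈ Subgroup.normalizer ((P : Subgroup G) : Set G)) ∧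
      (∀ x t : ↥X, x ∈ Subgroup.centralizer ({t} : Set ↥X) ↔
        (x : G) ∈ Subgroup.centralizer ({(t : G)} : Set G)) := by
  refine ⟨P.subtype hPX, Sylow.coe_subtype P hPX, ?_, ?_, ?_, ?_⟩
  · rw [Sylow.coe_subtype]; exact h3_card_subgroupOf hPX
  · intro x; rw [Sylow.coe_subtype]; exact h3_mem_centralizer_subgroupOf hPX x
  · intro x; rw [Sylow.coe_subtype]; exact h3_mem_normalizer_subgroupOf hPX x
  · intro x t; exact h3_mem_centralizer_singleton t x

end Cfsg.Agent.S6U
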