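import Mathlib
import Cfsg.Agent.S6U.H3_Restrict

/-!
# S6U / DC: the cyclic case

`X ⊴ G` simple containing the Sylow 3-subgroup `P` (elementary abelian of order 9, self-centralizing),
`C_X(s) ≤ P` for `s ∈ P#`, two non-conjugate elements in `P#`, `|N_G(P) ∩ X|` dividing `36`:
by S3341 (taken as a hypothesis) `X ≅ A₆`, and then Sylow's theorem and Burnside's transfer theorem
force `|N_G(P) ∩ X| = 36`.
-/

set_option autoImplicit false
set_option linter.style.haveILetI false

namespace Cfsg.Agent.S6U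

universe u

theorem h6_order_three {H : Type*} [Group H] {g : H} (h1 : g ≠ 1) (h3 : g ^ 3 = 1) :
    orderOf g = 3 := by
  have hd : orderOf g ∣ 3 := orderOf_dvd_of_pow_eq_one h3
  rcases (Nat.dvd_prime Nat.prime_three).mp hd with h | h
  · exact absurd (orderOf_eq_one_iff.mp h) h1
  · exact h

theorem h6_card_alt_six : Nat.card (alternatingGroup (Fin 6)) = 360 := by
  rw [nat_card_alternatingGroup]
  simp [Nat.factorial]

theorem h6_card_subgroupOf_inf {G : Type*} [Group G] (N X : Subgroup G) :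
    Nat.card (N.subgroupOf X) = Nat.card ↥(N ⊓ X) := by
  rw [← Subgroup.inf_subgroupOf_right]
  exact Nat.card_congr (Subgroup.subgroupOfEquivOfLe (inf_le_right : N ⊓ X ≤ X)).toEquiv

theorem h6_cyclic_case {G : Type u} [Group G] [Finite G]
    (P : Sylow 3 G) (hcard : Nat.card (P : Subgroup G) = 9)
    (hexp : ∀ a ∈ (P : Subgroup G), a ^ 3 = 1)
    (hC : Subgroup.centralizer ((P : Subgroup G) : Set G) = (P : Subgroup G))
    (X : Subgroup G) [X.Normal] [IsSimpleGroup ↥X] (hPX : (P : Subgroup G) ≤ X)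
    (hdvd : Nat.card ↥(Subgroup.normalizer ((P : Subgroup G) : Set G) ⊓ X) ∣ 36)
    (hfree : ∀ s ∈ (P : Subgroup G), s ≠ 1 → ∀ x ∈ X, x * s = s * x → x ∈ (P : Subgroup G))
    (a b : G) (ha : a ∈ (P : Subgroup G)) (hb : b ∈ (P : Subgroup G)) (ha1 : a ≠ 1) (hb1 : b ≠ 1)
    (hab : ∀ g : G, g * a * g⁻¹ ≠ b)
    (h3341 : ∀ {H : Type u} [Group H] [Finite H] [IsSimpleGroup H]
      (P : Sylow 3 H) (S : Subgroup H) (_ : S = P) (_ : IsMulCommutative S) (_ : ∀ a ∈ S, a ^ 3 = 1)
      (_ : Nat.card S = 9)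
      (_ : ∃ a b : H, orderOf a = 3 ∧ orderOf b = 3 ∧ ∀ g : H, g * a * g⁻¹ ≠ b)
      (_ : ∀ s ∈ S, s ≠ 1 → Subgroup.centralizer ({s} : Set H) = S),
      Nonempty (H ≃* alternatingGroup (Fin 6))) :
    Nonempty (↥X ≃* alternatingGroup (Fin 6)) ∧
      Nat.card ↥(Subgroup.normalizer ((P : Subgroup G) : Set G) ⊓ X) = 36 := by
  classical
  haveI : Fact (Nat.Prime 3) := ⟨Nat.prime_three⟩
  -- `P` is abelian
  have hPab : ∀ x ∈ (P : Subgroup G), ∀ y ∈ (P : Subgroup G), x * y = y * x := by
    intro x hx y hy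
    have hx' : x ∈ Subgroup.centralizer ((P : Subgroup G) : Set G) := by rw [hC]; exact hx
    exact ((Subgroup.mem_centralizer_iff.mp hx') y hy).symm
  -- the Sylow subgroup of `X`
  let Q : Sylow 3 ↥X := P.subtype hPX
  have hQ : (Q : Subgroup ↥X) = (P : Subgroup G).subgroupOf X := Sylow.coe_subtype P hPX
  have hmemS : ∀ x : ↥X, x ∈ (P : Subgroup G).subgroupOf X ↔ (x : G) ∈ (P : Subgroup G) :=
    fun x => Subgroup.mem_subgroupOf
  have hcardS : Nat.card ((P : Subgroup G).subgroupOf X) = 9 := by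
    rw [h3_card_subgroupOf hPX, hcard]
  have hiso : Nonempty (↥X ≃* alternatingGroup (Fin 6)) := by
    refine h3341 Q ((P : Subgroup G).subgroupOf X) hQ.symm ?_ ?_ hcardS ?_ ?_
    · exact ⟨⟨fun x y => Subtype.ext (Subtype.ext
        (hPab _ ((hmemS x.1).mp x.2) _ ((hmemS y.1).mp y.2)))⟩⟩
    · intro x hx
      apply Subtype.ext
      have := hexp (x : G) ((hmemS x).mp hx)
      simpa using this
    · refine ⟨⟨a, hPX ha⟩, ⟨b, hPX hb⟩, ?_, ?_, ?_⟩
      · apply h6_order_three
        · intro h; exact ha1 (congrArg Subtype.val h)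
        · apply Subtype.ext; simpa using hexp a ha
      · apply h6_order_three
        · intro h; exact hb1 (congrArg Subtype.val h)
        · apply Subtype.ext; simpa using hexp b hb
      · intro g hg
        exact hab (g : G) (by simpa using congrArg Subtype.val hg)
    · intro s hs hs1
      ext x
      rw [Subgroup.mem_centralizer_singleton_iff, hmemS]
      constructor
      · intro h
        refine hfree (s : G) ((hmemS s).mp hs) ?_ (x : G) x.2 (congrArg Subtype.val h)
        intro h1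
        exact hs1 (Subtype.ext h1)
      · intro hx
        exact Subtype.ext (hPab _ hx _ ((hmemS s).mp hs))
  refine ⟨hiso, ?_⟩
  obtain ⟨ψ⟩ := hiso
  have hX360 : Nat.card ↥X = 360 := by
    rw [Nat.card_congr ψ.toEquiv, h6_card_alt_six]
  -- the normalizer of `Q` in `X`
  have hNQ : Subgroup.normalizer ((Q : Subgroup ↥X) : Set ↥X) =
      (Subgroup.normalizer ((P : Subgroup G) : Set G)).subgroupOf X := by
    rw [hQ, h3_normalizer_subgroupOf hPX]
  have hcardNQ : Nat.card ↥(Subgroup.normalizer ((Q : Subgroup ↥X) : Set ↥X)) =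
      Nat.card ↥(Subgroup.normalizer ((P : Subgroup G) : Set G) ⊓ X) := by
    rw [hNQ, h6_card_subgroupOf_inf]
  set k := Nat.card ↥(Subgroup.normalizer ((P : Subgroup G) : Set G) ⊓ X) with hk
  -- `9 ∣ k`
  have h9 : 9 ∣ k := by
    have hle : (P : Subgroup G) ≤ Subgroup.normalizer ((P : Subgroup G) : Set G) ⊓ X :=
      le_inf Subgroup.le_normalizer hPX
    have := Subgroup.card_dvd_of_le hle
    rwa [hcard] at this
  -- Sylow counting
  have hidx : (Subgroup.normalizer ((Q : Subgroup ↥X) : Set ↥X)).index * k = 360 := by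
    rw [← hcardNQ, Subgroup.index_mul_card, hX360]
  have hn3 : Nat.card (Sylow 3 ↥X) ≡ 1 [MOD 3] := card_sylow_modEq_one 3 ↥X
  rw [Sylow.card_eq_index_normalizer Q] at hn3
  have hn3' : (Subgroup.normalizer ((Q : Subgroup ↥X) : Set ↥X)).index ≡ 1 [MOD 3] := hn3
  -- the three possibilities
  have hk36 : k = 9 ∨ k = 18 ∨ k = 36 := by
    have hpos : 0 < k := Nat.pos_of_dvd_of_pos hdvd (by norm_num)
    have hle : k ≤ 36 := Nat.le_of_dvd (by norm_num) hdvd
    obtain ⟨j, hj⟩ := h9
    have hj4 : j ≤ 4 := by omega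
    have hj0 : 0 < j := by omega
    interval_cases j
    · left; omega
    · right; left; omega
    · exfalso
      rw [hj] at hdvd
      norm_num at hdvd
    · right; right; omega
  rcases hk36 with h | h | h
  · -- `k = 9`: Burnside
    exfalso
    have hQcard : Nat.card (Q : Subgroup ↥X) = 9 := by rw [hQ]; exact hcardS
    have hNeq : (Q : Subgroup ↥X) = Subgroup.normalizer ((Q : Subgroup ↥X) : Set ↥X) := by
      apply Subgroup.eq_of_le_of_card_ge Subgroup.le_normalizer
      rw [hcardNQ, h, hQcard]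
    have hQab : ∀ x ∈ (Q : Subgroup ↥X), ∀ y ∈ (Q : Subgroup ↥X), x * y = y * x := by
      intro x hx y hy
      rw [hQ] at hx hy
      exact Subtype.ext (hPab _ ((hmemS x).mp hx) _ ((hmemS y).mp hy))
    have hP : Subgroup.normalizer ((Q : Subgroup ↥X) : Set ↥X) ≤
        Subgroup.centralizer ((Q : Subgroup ↥X) : Set ↥X) := by
      rw [← hNeq]
      intro x hx
      rw [Subgroup.mem_centralizer_iff]
      intro y hy
      exact hQab y hy x hx
    have hcompl := MonoidHom.ker_transferSylow_isComplement' Q hP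
    have hmul := hcompl.card_mul_card
    rw [hQcard, hX360] at hmul
    have hker : Nat.card ↥(MonoidHom.transferSylow Q hP).ker = 40 := by omega
    rcases (MonoidHom.normal_ker (MonoidHom.transferSylow Q hP)).eq_bot_or_eq_top with hb | ht
    · rw [hb, Subgroup.card_bot] at hker
      omega
    · rw [ht, Subgroup.card_top, hX360] at hker
      omega
  · -- `k = 18`: `n₃ = 20`
    exfalso
    rw [h] at hidx
    have : (Subgroup.normalizer ((Q : Subgroup ↥X) : Set ↥X)).index = 20 := by omega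
    rw [this] at hn3'
    exact absurd hn3' (by decide)
  · exact h

end Cfsg.Agent.S6U
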