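import Mathlib

/-!
# S3333 / S6U, piece D0: restriction of the Sylow data to a subgroup `X ≥ P`
-/

set_option autoImplicit false

namespace Cfsg.Agent.S6U

theorem h7_restrict {G : Type*} [Group G] [Finite G]
    (P : Sylow 3 G) (X : Subgroup G) (hPX : (P : Subgroup G) ≤ X) :
    ∃ Q : Sylow 3 ↥X, (Q : Subgroup ↥X) = (P : Subgroup G).subgroupOf X ∧
      Nat.card (Q : Subgroup ↥X) = Nat.card (P : Subgroup G) ∧
      (∀ x : ↥X, x ∈ Subgroup.centralizer ((Q : Subgroup ↥X) : Set ↥X) ↔
        (x : G) ∈ Subgroup.centralizer ((P : Subgroup G) : Set G)) ∧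
      (∀ x : ↥X, x ∈ Subgroup.normalizer ((Q : Subgroup ↥X) : Set ↥X) ↔
        (x : G) ∈ Subgroup.normalizer ((P : Subgroup G) : Set G)) ∧
      (∀ x t : ↥X, x ∈ Subgroup.centralizer ({t} : Set ↥X) ↔
        (x : G) ∈ Subgroup.centralizer ({(t : G)} : Set G)) := by
  refine ⟨P.subtype hPX, rfl, ?_, ?_, ?_, ?_⟩
  · exact Nat.card_congr (Subgroup.subgroupOfEquivOfLe hPX).toEquiv
  · intro x
    rw [Subgroup.mem_centralizer_iff, Subgroup.mem_centralizer_iff]
    constructor
    · intro h s hs
      have := h ⟨s, hPX hs⟩ (by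
        show (⟨s, hPX hs⟩ : ↥X) ∈ (P : Subgroup G).subgroupOf X
        rw [Subgroup.mem_subgroupOf]; exact hs)
      exact congrArg Subtype.val this
    · intro h s hs
      have hs' : (s : G) ∈ (P : Subgroup G) := by
        have : s ∈ (P : Subgroup G).subgroupOf X := hs
        rwa [Subgroup.mem_subgroupOf] at this
      exact Subtype.ext (h (s : G) hs')
  · intro x
    rw [Subgroup.mem_normalizer_iff, Subgroup.mem_normalizer_iff]
    constructor
    · intro h s
      constructor
      · intro hs
        have := (h ⟨s, hPX hs⟩).mp (by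
          show (⟨s, hPX hs⟩ : ↥X) ∈ (P : Subgroup G).subgroupOf X
          rw [Subgroup.mem_subgroupOf]; exact hs)
        have h2 : x * ⟨s, hPX hs⟩ * x⁻¹ ∈ (P : Subgroup G).subgroupOf X := this
        rw [Subgroup.mem_subgroupOf] at h2
        simpa using h2
      · intro hs
        have hsX : s ∈ X := by
          have h1 : (x : G)⁻¹ * ((x : G) * s * (x : G)⁻¹) * (x : G) ∈ X :=
            X.mul_mem (X.mul_mem (X.inv_mem x.2) (hPX hs)) x.2
          have h2 : (x : G)⁻¹ * ((x : G) * s * (x : G)⁻¹) * (x : G) = s := by group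
          rwa [h2] at h1
        have := (h ⟨s, hsX⟩).mpr (by
          show x * ⟨s, hsX⟩ * x⁻¹ ∈ (P : Subgroup G).subgroupOf X
          rw [Subgroup.mem_subgroupOf]; simpa using hs)
        have h2 : (⟨s, hsX⟩ : ↥X) ∈ (P : Subgroup G).subgroupOf X := this
        rwa [Subgroup.mem_subgroupOf] at h2
    · intro h s
      have h1 := h (s : G)
      show s ∈ (P : Subgroup G).subgroupOf X ↔ x * s * x⁻¹ ∈ (P : Subgroup G).subgroupOf X
      rw [Subgroup.mem_subgroupOf, Subgroup.mem_subgroupOf]
      simpa using h1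
  · intro x t
    rw [Subgroup.mem_centralizer_iff, Subgroup.mem_centralizer_iff]
    constructor
    · intro h s hs
      rw [Set.mem_singleton_iff] at hs
      subst hs
      exact congrArg Subtype.val (h t rfl)
    · intro h s hs
      rw [Set.mem_singleton_iff] at hs
      subst hs
      exact Subtype.ext (h (s : G) rfl)

end Cfsg.Agent.S6U
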