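import Mathlib

set_option autoImplicit false

namespace Cfsg.Agent.S6U

/-- conjugation by an element sending `a` to a power of `a` sends powers to powers -/
theorem h8_conj_zpow {G : Type*} [Group G] (n a : G) (k : ℤ) (j : ℤ)
    (h : n * a * n⁻¹ = a ^ k) : n * a ^ j * n⁻¹ = a ^ (k * j) := by
  have : n * a ^ j * n⁻¹ = (n * a * n⁻¹) ^ j := by
    simp [conj_zpow]
  rw [this, h, zpow_mul]

/-- if `D4` were commutative ... it is not -/
theorem h8_dihedral_four_not_comm :
    ¬ ∀ x y : DihedralGroup 4, x * y = y * x := by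
  intro h
  have := h (DihedralGroup.r 1) (DihedralGroup.sr 0)
  revert this
  decide

/-- A1: `S` has exponent 3 -/
theorem h8_exp_three {G : Type*} [Group G] [Finite G]
    (P : Sylow 3 G) (S : Subgroup G) (hSP : S = P) (hcard : Nat.card S = 9)
    (hC : Subgroup.centralizer (S : Set G) = S)
    (eN : Subgroup.normalizer (S : Set G) ⧸ S.subgroupOf (Subgroup.normalizer (S : Set G)) ≃* DihedralGroup 4) :
    ∀ a ∈ S, a ^ 3 = 1 := by
  intro a ha
  by_contra ha3
  -- order of a is 9
  have ho9 : orderOf a ∣ 9 := by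
    have h1 : orderOf (⟨a, ha⟩ : S) ∣ Nat.card S := orderOf_dvd_natCard _
    rw [hcard] at h1
    have h2 : orderOf (⟨a, ha⟩ : S) = orderOf a := by
      rw [← Subgroup.orderOf_coe]
    rwa [h2] at h1
  have ho : orderOf a = 9 := by
    have hdiv : orderOf a ∈ Nat.divisors 9 := by
      rw [Nat.mem_divisors]; exact ⟨ho9, by norm_num⟩
    have hd : Nat.divisors 9 = {1, 3, 9} := by decide
    rw [hd] at hdiv
    simp only [Finset.mem_insert, Finset.mem_singleton] at hdiv
    rcases hdiv with h | h | h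
    · exfalso; apply ha3
      rw [orderOf_eq_one_iff] at h; rw [h]; simp
    · exfalso; apply ha3
      rw [← h]; exact pow_orderOf_eq_one a
    · exact h
  -- S = zpowers a
  have hS : S = Subgroup.zpowers a := by
    symm
    apply Subgroup.eq_of_le_of_card_ge
    · rw [Subgroup.zpowers_le]; exact ha
    · rw [hcard, Nat.card_zpowers, ho]
  -- commutativity of the quotient
  apply h8_dihedral_four_not_comm
  have hcomm : ∀ x y : Subgroup.normalizer (S : Set G) ⧸ S.subgroupOf (Subgroup.normalizer (S : Set G)),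
      x * y = y * x := by
    intro x y
    induction x using QuotientGroup.induction_on with
    | H n1 =>
    induction y using QuotientGroup.induction_on with
    | H n2 =>
    rw [← QuotientGroup.mk_mul, ← QuotientGroup.mk_mul, eq_comm, QuotientGroup.eq]
    rw [Subgroup.mem_subgroupOf]
    -- conjugation data
    have hn1 : (n1 : G) * a * (n1 : G)⁻¹ ∈ S := by
      have := n1.2
      rw [Subgroup.mem_normalizer_iff] at this
      exact (this a).1 ha
    have hn2 : (n2 : G) * a * (n2 : G)⁻¹ ∈ S := by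
      have := n2.2
      rw [Subgroup.mem_normalizer_iff] at this
      exact (this a).1 ha
    obtain ⟨k1, hk1⟩ := Subgroup.mem_zpowers_iff.1 (hS.le hn1)
    obtain ⟨k2, hk2⟩ := Subgroup.mem_zpowers_iff.1 (hS.le hn2)
    -- the element c = (n2 n1)⁻¹ (n1 n2) centralizes a
    set c : G := (((n2 * n1)⁻¹ * (n1 * n2) : Subgroup.normalizer (S : Set G)) : G) with hc
    have hcval : c = ((n2 : G) * (n1 : G))⁻¹ * ((n1 : G) * (n2 : G)) := by
      simp [hc]
    have h12 : ((n1 : G) * (n2 : G)) * a * ((n1 : G) * (n2 : G))⁻¹ = a ^ (k1 * k2) := by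
      have e1 : ((n1 : G) * (n2 : G)) * a * ((n1 : G) * (n2 : G))⁻¹
          = (n1 : G) * ((n2 : G) * a * (n2 : G)⁻¹) * (n1 : G)⁻¹ := by group
      rw [e1, ← hk2]
      exact h8_conj_zpow _ _ _ _ hk1.symm
    have h21 : ((n2 : G) * (n1 : G)) * a * ((n2 : G) * (n1 : G))⁻¹ = a ^ (k1 * k2) := by
      have e1 : ((n2 : G) * (n1 : G)) * a * ((n2 : G) * (n1 : G))⁻¹
          = (n2 : G) * ((n1 : G) * a * (n1 : G)⁻¹) * (n2 : G)⁻¹ := by group
      rw [e1, ← hk1, mul_comm k1 k2]
      exact h8_conj_zpow _ _ _ _ hk2.symm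
    have hca : c * a = a * c := by
      have h3 : ((n1 : G) * (n2 : G)) * a * ((n1 : G) * (n2 : G))⁻¹
          = ((n2 : G) * (n1 : G)) * a * ((n2 : G) * (n1 : G))⁻¹ := by rw [h12, h21]
      rw [hcval]
      have h4 : a * ((n1 : G) * (n2 : G))⁻¹ = ((n1 : G) * (n2 : G))⁻¹ * (((n2 : G) * (n1 : G)) * a * ((n2 : G) * (n1 : G))⁻¹) := by
        rw [← h3]; group
      calc ((n2 : G) * (n1 : G))⁻¹ * ((n1 : G) * (n2 : G)) * a
          = ((n2 : G) * (n1 : G))⁻¹ * (((n1 : G) * (n2 : G)) * a * ((n1 : G) * (n2 : G))⁻¹) * ((n1 : G) * (n2 : G)) := by group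
        _ = ((n2 : G) * (n1 : G))⁻¹ * (((n2 : G) * (n1 : G)) * a * ((n2 : G) * (n1 : G))⁻¹) * ((n1 : G) * (n2 : G)) := by rw [h3]
        _ = a * (((n2 : G) * (n1 : G))⁻¹ * ((n1 : G) * (n2 : G))) := by group
    -- so c ∈ centralizer S = S
    have hcen : c ∈ Subgroup.centralizer (S : Set G) := by
      rw [Subgroup.mem_centralizer_iff]
      intro s hs
      have hs' : s ∈ Subgroup.zpowers a := hS.le hs
      rw [Subgroup.mem_zpowers_iff] at hs'
      obtain ⟨j, rfl⟩ := hs'
      have : Commute c (a ^ j) := (show Commute c a from hca).zpow_right j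
      exact this.eq.symm
    rw [hC] at hcen
    exact hcen
  intro x y
  have := hcomm (eN.symm x) (eN.symm y)
  have h2 := congrArg eN this
  simpa using h2

end Cfsg.Agent.S6U
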